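import Groth.Agent.H16Derived.KFlat.LpullLocal
import Groth.Agent.H16Derived.KFlat.SheafAssoc
import Groth.Agent.H16Derived.KFlat.RestrictD
import Mathlib.Algebra.Homology.HomotopyCategory.DegreewiseSplit
import Mathlib.Algebra.Homology.DerivedCategory.KInjective

/-!
# Quasi-isomorphisms over an open; tensor products and pullbacks
-/

set_option autoImplicit false
set_option linter.style.haveILetI false

universe v v' u u'

open CategoryTheory CategoryTheory.Limits AlgebraicGeometry CategoryTheory.Pretriangulated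

attribute [local instance] HasDerivedCategory.standard

namespace Groth.Agent.H16Derived.ProjFormula

open Groth.Agent.H16Derived.KFlat Groth.Agent.H16Derived.KFlat.Stalk

section General

variable {A : Type u} [Category.{v} A] [Abelian A]

/-- K-injective complexes are stable under termwise split extensions. -/
theorem isKInjective_X₂ (S : ShortComplex (CochainComplex A ℤ))
    (σ : ∀ n, (S.map (HomologicalComplex.eval A _ n)).Splitting)
    (h₁ : S.X₁.IsKInjective) (h₃ : S.X₃.IsKInjective) : S.X₂.IsKInjective := by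
  rw [CochainComplex.isKInjective_iff_rightOrthogonal] at h₁ h₃ ⊢
  exact ObjectProperty.ext_of_isTriangulatedClosed₂ _ (CochainComplex.trianglehOfDegreewiseSplit S σ)
    ((HomotopyCategory.distinguished_iff_iso_trianglehOfDegreewiseSplit _).2
      ⟨S, σ, ⟨Iso.refl _⟩⟩) h₁ h₃

variable {B : Type u'} [Category.{v'} B] [Abelian B]

/-- An additive functor preserves quasi-isomorphisms between K-injective complexes. -/
theorem quasiIso_map_of_isKInjective [HasDerivedCategory A] (G : A ⥤ B) [G.Additive]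
    {I J : CochainComplex A ℤ} [I.IsKInjective] [J.IsKInjective] (φ : I ⟶ J) [QuasiIso φ] :
    QuasiIso ((G.mapHomologicalComplex (ComplexShape.up ℤ)).map φ) := by
  let q := HomotopyCategory.quotient A (ComplexShape.up ℤ)
  haveI : IsIso (DerivedCategory.Qh.map (q.map φ)) := by
    haveI : IsIso (DerivedCategory.Q.map φ) :=
      (DerivedCategory.isIso_Q_map_iff_quasiIso A φ).2 inferInstance
    exact (NatIso.isIso_map_iff (DerivedCategory.quotientCompQhIso A) φ).2 inferInstance
  obtain ⟨g, hg⟩ := (CochainComplex.IsKInjective.Qh_map_bijective (q.obj J) I).2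
    (inv (DerivedCategory.Qh.map (q.map φ)))
  obtain ⟨g, rfl⟩ := q.map_surjective g
  have h₁ : q.map (φ ≫ g) = q.map (𝟙 I) := by
    apply (CochainComplex.IsKInjective.Qh_map_bijective (q.obj I) I).1
    rw [q.map_comp, Functor.map_comp, hg, IsIso.hom_inv_id, q.map_id, CategoryTheory.Functor.map_id]
  have h₂ : q.map (g ≫ φ) = q.map (𝟙 J) := by
    apply (CochainComplex.IsKInjective.Qh_map_bijective (q.obj J) J).1
    rw [q.map_comp, Functor.map_comp, hg, IsIso.inv_hom_id, q.map_id, CategoryTheory.Functor.map_id]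
  exact ((G.mapHomotopyEquiv (HomotopyEquiv.mk φ g (HomotopyCategory.homotopyOfEq _ _ h₁)
    (HomotopyCategory.homotopyOfEq _ _ h₂)))).quasiIso_hom

end General

variable {X Y : Scheme.{u}}

/-- A quasi-isomorphism over `V`. -/
def QisOn (V : X.Opens) {K L : CochainComplex X.Modules ℤ} (φ : K ⟶ L) : Prop :=
  QuasiIso ((DCoh.restrictCx V).map φ)

lemma qisOn_of_quasiIso (V : X.Opens) {K L : CochainComplex X.Modules ℤ} (φ : K ⟶ L) [QuasiIso φ] :
    QisOn V φ := by
  haveI : IsIso (DerivedCategory.Q.map φ) :=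
    (DerivedCategory.isIso_Q_map_iff_quasiIso X.Modules φ).2 inferInstance
  exact (DerivedCategory.isIso_Q_map_iff_quasiIso (V : Scheme.{u}).Modules _).1
    ((NatIso.isIso_map_iff (Scheme.Modules.restrictFunctor V.ι).mapDerivedCategoryFactors φ).1
      (inferInstanceAs (IsIso ((DCoh.restrictD V.ι).map (DerivedCategory.Q.map φ)))))

/-- The restriction of an exact functor's short exact sequence. -/
lemma qisOn_f {V : X.Opens} {S : ShortComplex (CochainComplex X.Modules ℤ)} (hS : S.ShortExact)
    (h₃ : ((DCoh.restrictCx V).obj S.X₃).Acyclic) : QisOn V S.f := by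
  have h : (S.map (DCoh.restrictCx V)).ShortExact :=
    HomologicalComplex.shortExact_of_degreewise_shortExact _ fun q =>
      (hS.map_of_exact (HomologicalComplex.eval X.Modules (ComplexShape.up ℤ) q)).map_of_exact
        (Scheme.Modules.restrictFunctor V.ι)
  haveI : Mono ((DCoh.restrictCx V).map S.f) := h.mono_f
  exact KInjRes.quasiIso_of_mono _ (acyclic_of_iso
    (IsColimit.coconePointUniqueUpToIso h.gIsCokernel (colimit.isColimit _)) h₃)

/-- Tensor products with acyclic K-flat complexes are acyclic. -/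
theorem acyclic_tot (L : CochainComplex X.Modules ℤ) {W : CochainComplex X.Modules ℤ}
    (hW : W.Acyclic) (hK : IsKFlat (DCoh.tensorBi (X := X)) W) :
    ((tot (DCoh.tensorBi (X := X)) L).obj W).Acyclic := by
  haveI := quasiIso_resψ L
  exact acyclic_tot_of_acyclic_of_isKFlat _ hW hK ((resψ (X := X)).app L) (isKFlat_flip_res L)

/-- The same over an open. -/
theorem acyclic_restrict_tot (V : X.Opens) (L : CochainComplex X.Modules ℤ)
    {W : CochainComplex X.Modules ℤ} (hW : ((DCoh.restrictCx V).obj W).Acyclic)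
    (hK : IsKFlat (DCoh.tensorBi (X := X)) W) :
    ((DCoh.restrictCx V).obj ((tot (DCoh.tensorBi (X := X)) L).obj W)).Acyclic := by
  let r := NatIso.mapHomologicalComplex (Scheme.Modules.restrictFunctorIsoPullback V.ι)
    (ComplexShape.up ℤ)
  refine acyclic_of_iso (r.app _ ≪≫ pullTotIso V.ι L W).symm ?_
  exact acyclic_tot _ (acyclic_of_iso (r.app W) hW) (isKFlat_pullback V.ι hK)

/-- The pullback of a complex acyclic over `V` is acyclic over `f⁻¹ V`. -/
theorem acyclic_restrict_pullback (f : X ⟶ Y) (V : Y.Opens) {W : CochainComplex Y.Modules ℤ}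
    (hW : ((DCoh.restrictCx V).obj W).Acyclic) (hK : IsKFlat (DCoh.tensorBi (X := Y)) W) :
    ((DCoh.restrictCx (f ⁻¹ᵁ V)).obj
      (((Scheme.Modules.pullback f).mapHomologicalComplex (ComplexShape.up ℤ)).obj W)).Acyclic :=
  acyclic_of_iso (pullbackRestrictCxIso f V W).symm
    (acyclic_pullback _ hW (kflat_restrict V hK))

variable {Z : Scheme.{u}} (V : Y.Opens) (U : Z.Opens)
  (G : CochainComplex Y.Modules ℤ ⥤ CochainComplex Z.Modules ℤ)

/-- Functors sending K-flat complexes acyclic over `V` to complexes acyclic over `U` send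
quasi-isomorphisms over `V` of K-flat complexes to quasi-isomorphisms over `U`. -/
theorem qisOn_map {E E' : CochainComplex Y.Modules ℤ} (φ : E ⟶ E')
    (hE : IsKFlat (DCoh.tensorBi (X := Y)) E) (hE' : IsKFlat (DCoh.tensorBi (X := Y)) E')
    (hφ : QisOn V φ)
    (hsplit : ∀ S : ShortComplex (CochainComplex Y.Modules ℤ) , ∀ (_ : S.ShortExact),
      (∀ q, Nonempty (S.map (HomologicalComplex.eval _ (ComplexShape.up ℤ) q)).Splitting) →
        ∃ T : ShortComplex (CochainComplex Z.Modules ℤ), T.ShortExact ∧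
          ∃ (e₁ : T.X₁ ≅ G.obj S.X₁) (e₂ : T.X₂ ≅ G.obj S.X₂) (_ : T.X₃ ≅ G.obj S.X₃),
            T.f ≫ e₂.hom = e₁.hom ≫ G.map S.f)
    (hheq : ∀ {A B : CochainComplex Y.Modules ℤ} (π : A ⟶ B) (s : B ⟶ A),
      Nonempty (Homotopy (π ≫ s) (𝟙 _)) → Nonempty (Homotopy (s ≫ π) (𝟙 _)) → QuasiIso (G.map π))
    (hac : ∀ W : CochainComplex Y.Modules ℤ, IsKFlat (DCoh.tensorBi (X := Y)) W →
      ((DCoh.restrictCx V).obj W).Acyclic → ((DCoh.restrictCx U).obj (G.obj W)).Acyclic) :
    QisOn U (G.map φ) := by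
  obtain ⟨M, j, π, s, h₁, h₂, h₃, h₄, -, -⟩ := TermwiseSplit.exists_injective_factorization E E' φ
  have : Mono j := HomologicalComplex.mono_of_mono_f _ fun n => by
    obtain ⟨C', e, he⟩ := h₄ n
    exact mono_of_mono_fac he
  let S := ShortComplex.mk j (cokernel.π j) (cokernel.condition j)
  have hS : S.ShortExact := { exact := ShortComplex.exact_cokernel j }
  have hsp : ∀ q, Nonempty (S.map (HomologicalComplex.eval _ (ComplexShape.up ℤ) q)).Splitting :=
    fun q => by
      obtain ⟨C', e, he⟩ := h₄ q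
      have hq := hS.map_of_exact (HomologicalComplex.eval Y.Modules (ComplexShape.up ℤ) q)
      exact ⟨ShortComplex.Splitting.ofExactOfRetraction _ hq.exact (e.hom ≫ biprod.fst)
        (by change j.f q ≫ e.hom ≫ biprod.fst = 𝟙 _; rw [← Category.assoc, he, biprod.inl_fst])
        hq.epi_g⟩
  have hπ : QuasiIso π := (HomotopyEquiv.mk π s h₃.some (Homotopy.ofEq h₂)).quasiIso_hom
  have hFS : IsFSES (F := DCoh.tensorBi (X := Y)) S := isFSES_of_splitting S hsp
  have hkM : IsKFlat (DCoh.tensorBi (X := Y)) M := fun L hL => by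
    haveI := quasiIso_tot_map_of_homotopy_inverse (F := DCoh.tensorBi (X := Y)) L π s h₃
      ⟨Homotopy.ofEq h₂⟩
    intro i
    rw [HomologicalComplex.exactAt_iff_isZero_homology]
    exact (hE' L hL i).isZero_homology.of_iso
      (isoOfQuasiIsoAt ((tot (DCoh.tensorBi (X := Y)) L).map π) i)
  have hk₃ : IsKFlat (DCoh.tensorBi (X := Y)) S.X₃ := hFS.isKFlat₃ hE hkM
  have hj : QuasiIso ((DCoh.restrictCx V).map j) := by
    haveI : QuasiIso ((DCoh.restrictCx V).map π) := qisOn_of_quasiIso V π
    haveI : QuasiIso ((DCoh.restrictCx V).map j ≫ (DCoh.restrictCx V).map π) := by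
      rw [← Functor.map_comp, h₁]; exact hφ
    exact quasiIso_of_comp_right _ ((DCoh.restrictCx V).map π)
  have h₃' : ((DCoh.restrictCx V).obj S.X₃).Acyclic :=
    ShortComplex.ShortExact.acyclic_X₃ (S := S.map (DCoh.restrictCx V))
      (HomologicalComplex.shortExact_of_degreewise_shortExact _ fun q =>
        (hS.map_of_exact (HomologicalComplex.eval Y.Modules (ComplexShape.up ℤ) q)).map_of_exact
          (Scheme.Modules.restrictFunctor V.ι)) hj
  obtain ⟨T, hT, e₁, e₂, e₃, he⟩ := hsplit S hS hsp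
  have hf : QisOn U T.f := qisOn_f hT
    (acyclic_of_iso ((DCoh.restrictCx U).mapIso e₃).symm (hac _ hk₃ h₃'))
  have hgj : G.map j = e₁.inv ≫ T.f ≫ e₂.hom := by rw [he, Iso.inv_hom_id_assoc]
  haveI : QuasiIso (G.map π) := hheq π s h₃ ⟨Homotopy.ofEq h₂⟩
  haveI : QuasiIso ((DCoh.restrictCx U).map (G.map π)) := qisOn_of_quasiIso U _
  haveI : QuasiIso ((DCoh.restrictCx U).map T.f) := hf
  rw [← h₁, G.map_comp, hgj]
  unfold QisOn
  simp only [Functor.map_comp]
  infer_instance

end Groth.Agent.H16Derived.ProjFormula
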