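import Groth.Agent.H16Derived.ProjFormula.Map
import Groth.Agent.H16Derived.ProjFormula.OnOpen
import Groth.Agent.H16Derived.QCohD.MV
import Groth.Agent.H16Derived.KFlat.BoundedAbove
import Groth.Agent.H16Derived.KFlat.Single
import Groth.Prelude.Def_CxOX
import Mathlib.Algebra.Homology.BifunctorShift

/-!
# The projection formula map for bounded complexes of free modules on an open
-/

set_option autoImplicit false
set_option linter.style.haveILetI false

universe v v' u u'

open CategoryTheory CategoryTheory.Limits AlgebraicGeometry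

attribute [local instance] HasDerivedCategory.standard

namespace Groth.Agent.H16Derived.ProjFormula

open Groth.Agent.H16Derived.KFlat Groth.Agent.H16Derived.KFlat.Stalk

section General

variable {A : Type u} [Category.{v} A] [Abelian A]

/-- A morphism between finite decompositions which is componentwise an isomorphism. -/
theorem isIso_of_decomp {ι : Type*} [DecidableEq ι] (s : Finset ι) {P Q : A} (α : P ⟶ Q)
    {Xi Yi : ι → A} (a : ∀ i, Xi i ⟶ P) (pa : ∀ i, P ⟶ Xi i) (b : ∀ i, Yi i ⟶ Q)
    (pb : ∀ i, Q ⟶ Yi i) (c : ∀ i, Xi i ⟶ Yi i) (hc : ∀ i ∈ s, IsIso (c i))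
    (comm : ∀ i ∈ s, a i ≫ α = c i ≫ b i) (ha : ∑ i ∈ s, pa i ≫ a i = 𝟙 P)
    (hb : ∑ i ∈ s, pb i ≫ b i = 𝟙 Q) (hbb : ∀ i ∈ s, b i ≫ pb i = 𝟙 _)
    (hbb' : ∀ i ∈ s, ∀ j ∈ s, i ≠ j → b i ≫ pb j = 0) : IsIso α := by
  classical
  let d : ∀ i, Yi i ⟶ Xi i := fun i => if h : i ∈ s then (haveI := hc i h; inv (c i)) else 0
  have hd : ∀ i ∈ s, c i ≫ d i = 𝟙 _ ∧ d i ≫ c i = 𝟙 _ := fun i h => by
    haveI := hc i h
    simp [d, dif_pos h]
  refine ⟨∑ i ∈ s, pb i ≫ d i ≫ a i, ?_, ?_⟩
  · conv_rhs => rw [← ha]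
    conv_lhs => rw [← Category.id_comp α, ← ha, Preadditive.sum_comp, Preadditive.sum_comp]
    refine Finset.sum_congr rfl fun j hj => ?_
    rw [Category.assoc, Category.assoc, reassoc_of% (comm j hj), Preadditive.comp_sum,
      Finset.sum_eq_single_of_mem j hj (fun i hi hij => by
        rw [reassoc_of% (hbb' j hj i hi (Ne.symm hij)), zero_comp]),
      reassoc_of% (hbb j hj), reassoc_of% (hd j hj).1]
  · rw [Preadditive.sum_comp, ← hb]
    refine Finset.sum_congr rfl fun i hi => ?_
    rw [Category.assoc, Category.assoc, comm i hi, reassoc_of% (hd i hi).2]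

variable {B : Type u'} [Category.{v'} B] [Abelian B]
  {C : Type u} [Category.{v} C] [Abelian C] [HasCountableCoproducts C]
  (F : A ⥤ B ⥤ C) [F.Additive] [∀ a, (F.obj a).Additive]
  (L : CochainComplex A ℤ) (E : CochainComplex B ℤ)

/-- The summand of degree `(n - q, q)`. -/
noncomputable def ιq (n q : ℤ) :
    (F.obj (L.X (n - q))).obj (E.X q) ⟶ ((tot F L).obj E).X n :=
  HomologicalComplex.ιMapBifunctor L E F (ComplexShape.up ℤ) (n - q) q n (sub_add_cancel n q)

open Classical in
/-- The projection to the summand of degree `(n - q, q)`. -/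
noncomputable def πq (n q : ℤ) :
    ((tot F L).obj E).X n ⟶ (F.obj (L.X (n - q))).obj (E.X q) :=
  HomologicalComplex.mapBifunctorDesc fun p q' h =>
    if hq : q' = q then eqToHom (by
      have h' : p + q' = n := h
      rw [hq, show n - q = p by omega]) else 0

lemma ιq_πq (n q : ℤ) : ιq F L E n q ≫ πq F L E n q = 𝟙 _ := by
  rw [ιq, πq]
  erw [HomologicalComplex.ι_mapBifunctorDesc]
  rw [dif_pos rfl, eqToHom_refl]

lemma ιq_πq' (n q q' : ℤ) (h : q ≠ q') : ιq F L E n q ≫ πq F L E n q' = 0 := by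
  rw [ιq, πq]
  erw [HomologicalComplex.ι_mapBifunctorDesc]
  rw [dif_neg h]

lemma sum_πq_ιq {a b : ℤ} (hE : ∀ q, q < a ∨ b < q → IsZero (E.X q)) (n : ℤ) :
    ∑ q ∈ Finset.Icc a b, πq F L E n q ≫ ιq F L E n q = 𝟙 _ := by
  refine HomologicalComplex.mapBifunctor.hom_ext fun p q h => ?_
  by_cases hq : q ∈ Finset.Icc a b
  · have h' : p + q = n := h
    obtain rfl : p = n - q := by omega
    erw [Category.comp_id, Preadditive.comp_sum, Finset.sum_eq_single_of_mem q hq (fun q' _ hne =>
      (Category.assoc _ _ _).symm.trans ((congrArg (· ≫ ιq F L E n q')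
        (ιq_πq' F L E n q q' (Ne.symm hne))).trans zero_comp))]
    exact (Category.assoc _ _ _).symm.trans ((congrArg (· ≫ ιq F L E n q)
      (ιq_πq F L E n q)).trans (Category.id_comp _))
  · refine ((F.obj (L.X p)).map_isZero (hE q ?_)).eq_of_src _ _
    simp only [Finset.mem_Icc] at hq
    omega

/-- Degreewise splittings are preserved by total complexes. -/
theorem nonempty_splitting_tot (S : ShortComplex (CochainComplex B ℤ))
    (hS : ∀ p q : ℤ, ((S.map (HomologicalComplex.eval B (ComplexShape.up ℤ) q)).map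
      (F.obj (L.X p))).Splitting) (n : ℤ) :
    Nonempty ((S.map (tot F L)).map (HomologicalComplex.eval C (ComplexShape.up ℤ) n)).Splitting := by
  let J := (ComplexShape.π (ComplexShape.up ℤ) (ComplexShape.up ℤ) (ComplexShape.up ℤ)) ⁻¹' {n}
  let P : J → ShortComplex C := fun i =>
    (S.map (HomologicalComplex.eval B (ComplexShape.up ℤ) i.1.2)).map (F.obj (L.X i.1.1))
  let σ : ∀ i : J, (P i).Splitting := fun i => hS _ _
  let T : ShortComplex C := ShortComplex.mk (Limits.Sigma.map fun i => (P i).f)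
    (Limits.Sigma.map fun i => (P i).g) (Sigma.hom_ext _ _ fun i => by simp [(P i).zero])
  let σT : T.Splitting :=
    { r := Limits.Sigma.map fun i => (σ i).r
      s := Limits.Sigma.map fun i => (σ i).s
      f_r := Sigma.hom_ext _ _ fun i => by simp [T]
      s_g := Sigma.hom_ext _ _ fun i => by simp [T]
      id := Sigma.hom_ext _ _ fun i => by
        simp only [T, Preadditive.comp_add, Sigma.ι_map_assoc, Sigma.ι_map, Category.assoc,
          Category.comp_id]
        rw [← Category.assoc, ← Category.assoc, ← Preadditive.add_comp, (σ i).id, Category.id_comp] }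
  refine ⟨σT.ofIso (ShortComplex.isoMk (Iso.refl _) (Iso.refl _) (Iso.refl _) ?_ ?_)⟩
  all_goals
    exact (Category.id_comp _).trans ((sigma_map_eq_tot_map L _ n).symm.trans
      (Category.comp_id _).symm)

end General

variable {X Y : Scheme.{u}} (f : X ⟶ Y) (V : Y.Opens)

/-- Restriction to `V`. -/
noncomputable abbrev res (V : Y.Opens) : Y.Modules ⥤ (V : Scheme.{u}).Modules :=
  Scheme.Modules.restrictFunctor V.ι

/-- Morphisms which are isomorphisms over `V`, tensored. -/
theorem isIso_res_tensor (A : Y.Modules) {N N' : Y.Modules} (φ : N ⟶ N') [IsIso ((res V).map φ)] :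
    IsIso ((res V).map (((DCoh.tensorBi (X := Y)).obj A).map φ)) := by
  haveI : ∀ M, IsIso ((pullTensorR V.ι A).app M) := fun M => by
    rw [← pullTensorLIso_hom_app]; infer_instance
  haveI : IsIso ((Scheme.Modules.pullback V.ι).map φ) :=
    (NatIso.isIso_map_iff (Scheme.Modules.restrictFunctorIsoPullback V.ι) φ).1 inferInstance
  haveI := NatIso.isIso_of_isIso_app (pullTensorR V.ι A)
  refine (NatIso.isIso_map_iff (Scheme.Modules.restrictFunctorIsoPullback V.ι) _).2 ?_
  refine (NatIso.isIso_map_iff (asIso (pullTensorR V.ι A)) φ).2 ?_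
  exact inferInstanceAs (IsIso (((DCoh.tensorBi (X := (V : Scheme.{u}))).obj _).map
    ((Scheme.Modules.pullback V.ι).map φ)))

/-- Morphisms which are isomorphisms over `V`, pulled back. -/
theorem isIso_res_pull {N N' : Y.Modules} (φ : N ⟶ N') [IsIso ((res V).map φ)] :
    IsIso ((res (f ⁻¹ᵁ V)).map ((pull f).map φ)) :=
  (NatIso.isIso_map_iff (pullbackRestrictIso f V) φ).2
    (inferInstanceAs (IsIso ((Scheme.Modules.pullback (f ∣_ V)).map ((res V).map φ))))

/-- Morphisms which are isomorphisms over `f⁻¹ V`, pushed forward. -/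
theorem isIso_res_push {M M' : X.Modules} (φ : M ⟶ M') [IsIso ((res (f ⁻¹ᵁ V)).map φ)] :
    IsIso ((res V).map ((push f).map φ)) :=
  (NatIso.isIso_map_iff (pushRestrictNatIso f V) φ).2
    (inferInstanceAs (IsIso ((Scheme.Modules.pushforward (f ∣_ V)).map ((res (f ⁻¹ᵁ V)).map φ))))

/-- `j_! O_V`. -/
noncomputable abbrev N₁ : Y.Modules :=
  (CxOX.extZero V.ι).obj (Coh.structureModule (V : Scheme.{u}))

/-- `j_! O_V ⟶ O_Y`. -/
noncomputable def εN : N₁ V ⟶ Coh.structureModule Y :=
  (CxOX.extZero V.ι).map (Scheme.Modules.restrictUnitIso V.ι).inv ≫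
    (QCohD.MV.ε V).app (Coh.structureModule Y)

theorem isIso_res_εN : IsIso ((res V).map (εN V)) := by
  haveI := QCohD.MV.isIso_restrict_ε V (Coh.structureModule Y)
  rw [εN, Functor.map_comp]
  infer_instance

/-- A natural transformation of additive functors which is an isomorphism on two objects. -/
theorem isIso_app_biprod {A : Type (u + 1)} [Category.{u} A] [Preadditive A] [HasBinaryBiproducts A]
    {B : Type (u + 1)} [Category.{u} B] [Preadditive B] {F G : A ⥤ B} [F.Additive] [G.Additive]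
    (α : F ⟶ G) {P Q : A} (hP : IsIso (α.app P)) (hQ : IsIso (α.app Q)) :
    IsIso (α.app (P ⊞ Q)) := by
  refine ⟨G.map biprod.fst ≫ inv (α.app P) ≫ F.map biprod.inl +
    G.map biprod.snd ≫ inv (α.app Q) ≫ F.map biprod.inr, ?_, ?_⟩
  · rw [Preadditive.comp_add, ← α.naturality_assoc, ← α.naturality_assoc, IsIso.hom_inv_id_assoc,
      IsIso.hom_inv_id_assoc, ← F.map_comp, ← F.map_comp, ← F.map_add, biprod.total, F.map_id]
  · rw [Preadditive.add_comp, Category.assoc, Category.assoc, Category.assoc, Category.assoc,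
      α.naturality, α.naturality, IsIso.inv_hom_id_assoc, IsIso.inv_hom_id_assoc, ← G.map_comp,
      ← G.map_comp, ← G.map_add, biprod.total, G.map_id]

/-- `ψ` over `V` as a natural transformation in the second variable. -/
noncomputable def ψV (M : X.Modules) :
    (DCoh.tensorBi (X := Y)).obj ((push f).obj M) ⋙ res V ⟶
      pull f ⋙ (DCoh.tensorBi (X := X)).obj M ⋙ push f ⋙ res V where
  app N := (res V).map (ψ f M N)
  naturality N N' φ := by
    change (res V).map _ ≫ (res V).map _ = (res V).map _ ≫ (res V).map _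
    rw [← Functor.map_comp, ← Functor.map_comp]
    exact congrArg (res V).map (ψ_naturality f M φ)

/-- Splitting off the first summand. -/
noncomputable def sigmaSplit {n : ℕ} (g : Fin (n + 1) → Y.Modules) :
    (∐ g) ≅ g 0 ⊞ ∐ fun i : Fin n => g i.succ where
  hom := Sigma.desc (Fin.cases biprod.inl
    fun i => Sigma.ι (fun i : Fin n => g i.succ) i ≫ biprod.inr)
  inv := Limits.biprod.desc (Sigma.ι g 0) (Sigma.desc fun i => Sigma.ι g i.succ)
  hom_inv_id := Sigma.hom_ext _ _ fun i => by
    rw [Sigma.ι_desc_assoc, Category.comp_id]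
    induction i using Fin.cases with
    | zero => simp
    | succ i => simp
  inv_hom_id := Limits.biprod.hom_ext' _ _ (by simp) (by
    rw [biprod.inr_desc_assoc, Category.comp_id]
    refine Sigma.hom_ext _ _ fun i => ?_
    rw [Sigma.ι_desc_assoc, Sigma.ι_desc, Fin.cases_succ])

/-- Induction on finite sums of copies of an object. -/
theorem finSum_induction (P : Y.Modules → Prop) (hiso : ∀ {N N'}, (N ≅ N') → P N → P N')
    (h0 : ∀ N, IsZero N → P N) (hadd : ∀ N N', P N → P N' → P (N ⊞ N')) {M : Y.Modules} (hM : P M) :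
    ∀ n : ℕ, P (∐ fun _ : Fin n => M) := by
  intro n
  induction n with
  | zero => exact h0 _ ((IsZero.iff_id_eq_zero _).2 (Sigma.hom_ext _ _ fun i => i.elim0))
  | succ n ih => exact hiso (sigmaSplit fun _ : Fin (n + 1) => M).symm (hadd _ _ hM ih)

/-- The projection formula map over `V` for `j_! O_V^n`. -/
theorem isIso_res_ψ (M : X.Modules) (n : ℕ) :
    IsIso ((res V).map (ψ f M (∐ fun _ : Fin n => N₁ V))) := by
  refine finSum_induction (fun N => IsIso ((ψV f V M).app N)) (fun e h => ?_) (fun N hN => ?_)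
    (fun N N' h h' => isIso_app_biprod _ h h') ?_ n
  · exact (NatTrans.isIso_app_iff_of_iso _ e).1 h
  · exact isIso_of_source_target_iso_zero _ (Functor.map_isZero _ hN).isoZero
      (Functor.map_isZero _ hN).isoZero
  · haveI := isIso_res_εN V
    haveI := isIso_ψ_unit f M
    haveI := isIso_res_pull f V (εN V)
    haveI := isIso_res_tensor V ((push f).obj M) (εN V)
    haveI := isIso_res_tensor (f ⁻¹ᵁ V) M ((pull f).map (εN V))
    haveI := isIso_res_push f V (((DCoh.tensorBi (X := X)).obj M).map ((pull f).map (εN V)))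
    have h := (ψV f V M).naturality (εN V)
    haveI : IsIso (((DCoh.tensorBi (X := Y)).obj ((push f).obj M) ⋙ res V).map (εN V) ≫
        (ψV f V M).app (Coh.structureModule Y)) := by
      change IsIso ((res V).map _ ≫ (res V).map _)
      infer_instance
    haveI : IsIso ((pull f ⋙ (DCoh.tensorBi (X := X)).obj M ⋙ push f ⋙ res V).map (εN V)) := by
      change IsIso ((res V).map _)
      infer_instance
    exact IsIso.of_isIso_fac_right h.symm

/-- The tensor product of `I` with the pullback, over `f⁻¹ V`. -/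
noncomputable abbrev TU (I : CochainComplex X.Modules ℤ) :
    CochainComplex Y.Modules ℤ ⥤ CochainComplex ((f ⁻¹ᵁ V : X.Opens) : Scheme.{u}).Modules ℤ :=
  pullCx f ⋙ tot (DCoh.tensorBi (X := X)) I ⋙ DCoh.restrictCx (f ⁻¹ᵁ V)

/-- Restriction commutes with shifts. -/
noncomputable def restrictShiftIso (U : X.Opens) (K : CochainComplex X.Modules ℤ) (k : ℤ) :
    (DCoh.restrictCx U).obj (K⟦k⟧) ≅ ((DCoh.restrictCx U).obj K)⟦k⟧ :=
  ((Scheme.Modules.restrictFunctor U.ι).mapHomologicalComplex (ComplexShape.up ℤ)).commShiftIso k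
    |>.app K

/-- `I ⊗ f^*(j_! O_V^n)` over `f⁻¹ V` is K-injective. -/
theorem isKInjective_TU_single (I : CochainComplex X.Modules ℤ) [I.IsKInjective] (n : ℕ) (q : ℤ) :
    ((TU f V I).obj ((HomologicalComplex.single Y.Modules (ComplexShape.up ℤ) q).obj
      (∐ fun _ : Fin n => N₁ V))).IsKInjective := by
  suffices h0 : ((TU f V I).obj ((HomologicalComplex.single Y.Modules (ComplexShape.up ℤ) 0).obj
      (∐ fun _ : Fin n => N₁ V))).IsKInjective by
    let N := ∐ fun _ : Fin n => N₁ V
    let S0 := (HomologicalComplex.single Y.Modules (ComplexShape.up ℤ) 0).obj N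
    let e : (HomologicalComplex.single Y.Modules (ComplexShape.up ℤ) q).obj N ≅ S0⟦-q⟧ :=
      (((CochainComplex.singleFunctors Y.Modules).shiftIso (-q) q 0 (by omega)).app N).symm
    haveI := h0
    have h1 : (((DCoh.restrictCx (f ⁻¹ᵁ V)).obj
        ((tot (DCoh.tensorBi (X := X)) I).obj ((pullCx f).obj S0)))⟦-q⟧).IsKInjective :=
      (CochainComplex.isKInjective_shift_iff _ (-q)).2 h0
    refine @CochainComplex.isKInjective_of_iso _ _ _ _ _ ?_ h1
    exact ((TU f V I).mapIso e ≪≫
      (DCoh.restrictCx (f ⁻¹ᵁ V)).mapIso ((tot (DCoh.tensorBi (X := X)) I).mapIso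
        (((pull f).mapHomologicalComplex (ComplexShape.up ℤ)).commShiftIso (-q) |>.app S0) ≪≫
        CochainComplex.mapBifunctorShift₂Iso I ((pullCx f).obj S0) (DCoh.tensorBi (X := X)) (-q)) ≪≫
      restrictShiftIso (f ⁻¹ᵁ V) _ (-q)).symm
  let Φ : Y.Modules ⥤ CochainComplex ((f ⁻¹ᵁ V : X.Opens) : Scheme.{u}).Modules ℤ :=
    HomologicalComplex.single Y.Modules (ComplexShape.up ℤ) 0 ⋙ TU f V I
  haveI : Φ.Additive := inferInstance
  refine finSum_induction (fun N => (Φ.obj N).IsKInjective)
    (fun e h => haveI := h; CochainComplex.isKInjective_of_iso (Φ.mapIso e))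
    (fun N hN => ⟨fun _ _ => ⟨Homotopy.ofEq ((Φ.map_isZero hN).eq_of_tgt _ _)⟩⟩)
    (fun N N' h h' => ?_) ?_ n
  · let S := ShortComplex.mk (biprod.inl : Φ.obj N ⟶ Φ.obj N ⊞ Φ.obj N') biprod.snd biprod.inl_snd
    haveI := isKInjective_X₂ S (fun q => (ShortComplex.Splitting.ofHasBinaryBiproduct _ _).map
      (HomologicalComplex.eval _ _ q)) h h'
    haveI := preservesBinaryBiproducts_of_preservesBiproducts Φ
    exact CochainComplex.isKInjective_of_iso (Φ.mapBiprod N N').symm
  · let U := f ⁻¹ᵁ V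
    let r := NatIso.mapHomologicalComplex (Scheme.Modules.restrictFunctorIsoPullback U.ι)
      (ComplexShape.up ℤ)
    haveI := QCohD.MV.isIso_extZero_unit (X := Y) V
    haveI := isKInjective_restrict U I
    let J : CochainComplex (U : Scheme.{u}).Modules ℤ :=
      ((Scheme.Modules.pullback U.ι).mapHomologicalComplex (ComplexShape.up ℤ)).obj I
    haveI : CochainComplex.IsKInjective J := CochainComplex.isKInjective_of_iso (r.app I)
    let O := Coh.structureModule ((f ⁻¹ᵁ V : X.Opens) : Scheme.{u})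
    let eO : (Scheme.Modules.pullback U.ι).obj ((pull f).obj (N₁ V)) ≅ O :=
      (Scheme.Modules.restrictFunctorIsoPullback U.ι).symm.app _ ≪≫
        (pullbackRestrictIso f V).app _ ≪≫
        (Scheme.Modules.pullback (f ∣_ V)).mapIso ((asIso (CxOX.extZeroAdj V.ι).unit).app _).symm ≪≫
        structurePullbackIso (f ∣_ V)
    let S0 := HomologicalComplex.single (U : Scheme.{u}).Modules (ComplexShape.up ℤ) 0
    let eS : ((Scheme.Modules.pullback U.ι).mapHomologicalComplex (ComplexShape.up ℤ)).obj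
        ((pullCx f).obj ((HomologicalComplex.single Y.Modules (ComplexShape.up ℤ) 0).obj (N₁ V))) ≅
          S0.obj O :=
      ((Scheme.Modules.pullback U.ι).mapHomologicalComplex (ComplexShape.up ℤ)).mapIso
          ((HomologicalComplex.singleMapHomologicalComplex (pull f) (ComplexShape.up ℤ) 0).app _) ≪≫
        (HomologicalComplex.singleMapHomologicalComplex (Scheme.Modules.pullback U.ι)
          (ComplexShape.up ℤ) 0).app _ ≪≫ S0.mapIso eO
    let e₁ : Φ.obj (N₁ V) ≅ (tot (DCoh.tensorBi (X := (U : Scheme.{u}))) J).obj (S0.obj O) :=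
      r.app _ ≪≫ pullTotIso U.ι I _ ≪≫ (tot _ J).mapIso eS
    have hz : ∀ p, p ≠ 0 → IsZero ((S0.obj O).X p) := fun p hp =>
      HomologicalComplex.isZero_single_obj_X (ComplexShape.up ℤ) 0 O p hp
    let e₂ : (tot (DCoh.tensorBi (X := (U : Scheme.{u}))) J).obj (S0.obj O) ≅ J :=
      (totFlipIso J (S0.obj O)).symm ≪≫
        (singleLeftIso (DCoh.tensorBi (X := (U : Scheme.{u}))).flip (S0.obj O) J hz).symm ≪≫
        (NatIso.mapHomologicalComplex ((DCoh.tensorBi (X := (U : Scheme.{u}))).flip.mapIso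
          (HomologicalComplex.singleObjXSelf (ComplexShape.up ℤ) 0 O) ≪≫ ρ (U : Scheme.{u}))
          (ComplexShape.up ℤ)).app J ≪≫
        (Functor.mapHomologicalComplexIdIso _ _).app J
    exact CochainComplex.isKInjective_of_iso (e₁ ≪≫ e₂).symm

/-- Complexes with terms `j_! O_V^n` in a bounded range. -/
def FreeOn (S : CochainComplex Y.Modules ℤ) : Prop :=
  (∃ a b : ℤ, ∀ q, q < a ∨ b < q → IsZero (S.X q)) ∧
    ∀ q, ∃ n : ℕ, Nonempty (S.X q ≅ ∐ fun _ : Fin n => N₁ V)

/-- `I ⊗ f^* S` over `f⁻¹ V` is K-injective. -/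
theorem isKInjective_TU (I : CochainComplex X.Modules ℤ) [I.IsKInjective]
    {S : CochainComplex Y.Modules ℤ} (hS : FreeOn V S) : ((TU f V I).obj S).IsKInjective := by
  obtain ⟨⟨a, b, hab⟩, hterm⟩ := hS
  have hz : ∀ T : CochainComplex Y.Modules ℤ, (∀ q, IsZero (T.X q)) →
      ((TU f V I).obj T).IsKInjective := fun T hT => by
    have : IsZero T := (IsZero.iff_id_eq_zero _).2
      (HomologicalComplex.hom_ext _ _ fun q => (hT q).eq_of_src _ _)
    exact ⟨fun _ _ => ⟨Homotopy.ofEq ((Functor.map_isZero _ this).eq_of_tgt _ _)⟩⟩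
  suffices key : ∀ (k : ℕ) (a : ℤ) (T : CochainComplex Y.Modules ℤ),
      (∀ q, q < a → IsZero (T.X q)) → (∀ q, a + k ≤ q → IsZero (T.X q)) →
      (∀ q, ∃ n : ℕ, Nonempty (T.X q ≅ ∐ fun _ : Fin n => N₁ V)) →
      ((TU f V I).obj T).IsKInjective from
    key (b + 1 - a).toNat a S (fun q hq => hab q (Or.inl hq))
      (fun q hq => hab q (Or.inr (by omega))) hterm
  intro k
  induction k with
  | zero =>
    intro a T h1 h2 _
    refine hz T fun q => ?_
    rcases lt_or_ge q a with h | h
    · exact h1 q h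
    · exact h2 q (by simpa using h)
  | succ k ih =>
    intro a T h1 h2 hterm
    let c : ℤ := a + k
    have hgeq : ((TU f V I).obj (KFlat.Brutal.geq T c)).IsKInjective := by
      haveI : (KFlat.Brutal.geq T c).IsStrictlyGE c :=
        (CochainComplex.isStrictlyGE_iff _ c).2 fun q hq => KFlat.Brutal.isZero_geq T c hq
      haveI : (KFlat.Brutal.geq T c).IsStrictlyLE c :=
        (CochainComplex.isStrictlyLE_iff _ c).2 fun q hq => by
          haveI := KFlat.Brutal.isIso_ι_f T c hq.le
          exact (h2 q (by push_cast; omega)).of_iso (asIso ((KFlat.Brutal.ι T c).f q))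
      obtain ⟨M, ⟨e⟩⟩ := CochainComplex.exists_iso_single (KFlat.Brutal.geq T c) c
      obtain ⟨n, ⟨en⟩⟩ := hterm c
      let eM : M ≅ ∐ fun _ : Fin n => N₁ V :=
        (HomologicalComplex.singleObjXSelf (ComplexShape.up ℤ) c M).symm ≪≫
          (HomologicalComplex.eval Y.Modules (ComplexShape.up ℤ) c).mapIso e.symm ≪≫
          @asIso _ _ _ _ ((KFlat.Brutal.ι T c).f c) (KFlat.Brutal.isIso_ι_f T c (le_refl c)) ≪≫ en
      haveI := isKInjective_TU_single f V I n c
      exact CochainComplex.isKInjective_of_iso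
        ((TU f V I).mapIso (e ≪≫ (HomologicalComplex.single _ _ c).mapIso eM)).symm
    have hcok : ((TU f V I).obj (cokernel (KFlat.Brutal.ι T c))).IsKInjective := by
      refine ih a _ (fun q hq => KFlat.Brutal.isZero_cokernel' T c (h1 q hq))
        (fun q hq => KFlat.Brutal.isZero_cokernel T c hq) fun q => ?_
      rcases lt_or_ge q c with hq | hq
      · haveI := KFlat.Brutal.isIso_cokernel_π T c hq
        obtain ⟨n, ⟨en⟩⟩ := hterm q
        exact ⟨n, ⟨(asIso ((cokernel.π (KFlat.Brutal.ι T c)).f q)).symm ≪≫ en⟩⟩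
      · exact ⟨0, ⟨IsZero.iso (KFlat.Brutal.isZero_cokernel T c hq)
          ((IsZero.iff_id_eq_zero _).2 (Sigma.hom_ext _ _ fun i => i.elim0))⟩⟩
    have hsp : ∀ m : ℤ, Nonempty ((((KFlat.Brutal.S T c).map (pullCx f)).map
        (tot (DCoh.tensorBi (X := X)) I)).map
          (HomologicalComplex.eval X.Modules (ComplexShape.up ℤ) m)).Splitting := fun m => by
      have hq : ∀ p q : ℤ, ((((KFlat.Brutal.S T c).map (pullCx f)).map
          (HomologicalComplex.eval X.Modules (ComplexShape.up ℤ) q)).map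
            ((DCoh.tensorBi (X := X)).obj (I.X p))).Splitting := fun p q =>
        ((KFlat.Brutal.splitting T c q).some.map (pull f)).map ((DCoh.tensorBi (X := X)).obj (I.X p))
      exact nonempty_splitting_tot (DCoh.tensorBi (X := X)) I _ hq m
    exact isKInjective_X₂ (((KFlat.Brutal.S T c).map (pullCx f)).map
        (tot (DCoh.tensorBi (X := X)) I) |>.map (DCoh.restrictCx (f ⁻¹ᵁ V)))
      (fun m => (hsp m).some.map (res (f ⁻¹ᵁ V))) hgeq hcok

/-- The projection formula map over `V` for bounded complexes with terms `j_! O_V^n`. -/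
theorem isIso_restrict_Ψ (I : CochainComplex X.Modules ℤ) {S : CochainComplex Y.Modules ℤ}
    (hS : FreeOn V S) : IsIso ((DCoh.restrictCx V).map (Ψ f I S)) := by
  obtain ⟨⟨a, b, hab⟩, hterm⟩ := hS
  haveI : ∀ m, IsIso (((DCoh.restrictCx V).map (Ψ f I S)).f m) := fun m => by
    let G := res V
    let H := push f ⋙ res V
    let TY := DCoh.tensorBi (X := Y)
    let TX := DCoh.tensorBi (X := X)
    let L := (pushCx f).obj I
    let E := (pullCx f).obj S
    have hE : ∀ q, q < a ∨ b < q → IsZero (E.X q) := fun q hq => (pull f).map_isZero (hab q hq)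
    refine isIso_of_decomp (Finset.Icc a b) _ (fun q => G.map (ιq TY L S m q))
      (fun q => G.map (πq TY L S m q)) (fun q => H.map (ιq TX I E m q))
      (fun q => H.map (πq TX I E m q)) (fun q => G.map (ψ f (I.X (m - q)) (S.X q)))
      (fun q _ => ?_) (fun q _ => ?_) ?_ ?_ (fun q _ => ?_) fun q _ q' _ hne => ?_
    · obtain ⟨n, ⟨e⟩⟩ := hterm q
      exact (NatTrans.isIso_app_iff_of_iso (ψV f V (I.X (m - q))) e).2 (isIso_res_ψ f V _ n)
    · show G.map _ ≫ G.map ((Ψ f I S).f m) = G.map _ ≫ G.map ((push f).map _)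
      rw [← G.map_comp, ← G.map_comp]
      exact congrArg G.map (ι_Ψ f I S (m - q) q m (sub_add_cancel m q))
    · exact ((Finset.sum_congr rfl fun q _ => (G.map_comp _ _).symm).trans (G.map_sum _ _).symm).trans
        ((congrArg G.map (sum_πq_ιq TY L S hab m)).trans (G.map_id _))
    · exact ((Finset.sum_congr rfl fun q _ => (H.map_comp _ _).symm).trans (H.map_sum _ _).symm).trans
        ((congrArg H.map (sum_πq_ιq TX I E hE m)).trans (H.map_id _))
    · exact (H.map_comp _ _).symm.trans ((congrArg H.map (ιq_πq TX I E m q)).trans (H.map_id _))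
    · exact (H.map_comp _ _).symm.trans ((congrArg H.map (ιq_πq' TX I E m q q' hne)).trans (H.map_zero _ _))
  exact HomologicalComplex.Hom.isIso_of_components _

end Groth.Agent.H16Derived.ProjFormula
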