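import Groth.Agent.H16Derived.ProjFormula.Main
import Groth.Agent.LeadProper.PushRpush

/-!
# The projection formula for closed immersions
-/

set_option autoImplicit false
set_option linter.style.haveILetI false

universe u

open CategoryTheory CategoryTheory.Limits AlgebraicGeometry TensorProduct

attribute [local instance] HasDerivedCategory.standard
attribute [local instance] Groth.Agent.H06Mod.stalkAlgebra

namespace Groth.Agent.H16Derived.ProjFormula

open Groth.Agent.H16Derived.KFlat Groth.Agent.H16Derived.KFlat.Stalk MonoidalCategory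

variable {X Y : Scheme.{u}} (f : X ⟶ Y)

/-- The stalk of a direct image at `f x` maps to the stalk at `x`. -/
noncomputable def pushStalk (G : X.Modules) (x : X) :
    ((push f).obj G).presheaf.stalk (f.base x) →+ G.presheaf.stalk x :=
  (G.presheaf.stalkPushforward Ab.{u} f.base x).hom

theorem pushStalk_germ (G : X.Modules) (x : X) (U : Y.Opens) (h : f.base x ∈ U)
    (σ : Γ((push f).obj G, U)) :
    pushStalk f G x (((push f).obj G).presheaf.germ U (f.base x) h σ) =
      G.presheaf.germ (f ⁻¹ᵁ U) x h σ :=
  congr($(TopCat.Presheaf.stalkPushforward_germ Ab f.base G.presheaf U x h) σ)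

theorem pushStalk_bijective [IsClosedImmersion f] (G : X.Modules) (x : X) :
    Function.Bijective (pushStalk f G x) := by
  haveI : IsIso (G.presheaf.stalkPushforward Ab.{u} f.base x) :=
    TopCat.Presheaf.stalkPushforward.stalkPushforward_iso_of_isInducing Ab
      f.isClosedEmbedding.isInducing G.presheaf x
  exact ConcreteCategory.bijective_of_isIso (G.presheaf.stalkPushforward Ab.{u} f.base x)

theorem pushStalk_smul (G : X.Modules) (x : X) (r : Y.presheaf.stalk (f.base x))
    (σ : ((push f).obj G).presheaf.stalk (f.base x)) :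
    pushStalk f G x (r • σ) = (f.stalkMap x).hom r • pushStalk f G x σ := by
  obtain ⟨U, hU, r, σ, rfl, rfl⟩ := H06Mod.exists_germ_pair _ (f.base x) r σ
  rw [← H06Mod.germ_smul, pushStalk_germ, pushStalk_germ]
  refine Eq.trans ?_ (congrArg (· • G.presheaf.germ (f ⁻¹ᵁ U) x hU σ)
    (Scheme.Hom.germ_stalkMap_apply f U x hU r).symm)
  exact H06Mod.germ_smul G (f ⁻¹ᵁ U) (x := x) hU (f.app U r) σ

theorem pushStalk_naturality {G G' : X.Modules} (φ : G ⟶ G') (x : X)
    (σ : ((push f).obj G).presheaf.stalk (f.base x)) :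
    pushStalk f G' x ((TopCat.Presheaf.stalkFunctor Ab.{u} (f.base x)).map ((push f).map φ).mapPresheaf σ) =
      (TopCat.Presheaf.stalkFunctor Ab.{u} x).map φ.mapPresheaf (pushStalk f G x σ) := by
  obtain ⟨U, hU, σ, rfl⟩ := ((push f).obj G).presheaf.exists_germ_eq σ
  rw [TopCat.Presheaf.stalkFunctor_map_germ_apply, pushStalk_germ, pushStalk_germ,
    TopCat.Presheaf.stalkFunctor_map_germ_apply]
  rfl

theorem pushStalk_unit (F : Y.Modules) (x : X) (a : F.presheaf.stalk (f.base x)) :
    pushStalk f _ x ((TopCat.Presheaf.stalkFunctor Ab.{u} (f.base x)).map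
      ((adj f).unit.app F).mapPresheaf a) = H06Mod.pullStalk f F x a := by
  obtain ⟨U, hU, a, rfl⟩ := F.presheaf.exists_germ_eq a
  refine (congrArg (pushStalk f _ x) (TopCat.Presheaf.stalkFunctor_map_germ_apply (C := Ab.{u}) U (f.base x) hU
    ((adj f).unit.app F).mapPresheaf a)).trans ?_
  exact (pushStalk_germ f _ x U hU _).trans (H06Mod.pullStalk_germ f F x U hU a).symm

/-- Direct images under closed immersions have no stalks off the image. -/
theorem subsingleton_stalk_push [IsClosedImmersion f] (G : X.Modules) (y : Y)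
    (hy : y ∉ Set.range f.base) : Subsingleton (((push f).obj G).presheaf.stalk y) := by
  refine subsingleton_of_forall_eq 0 fun a => ?_
  obtain ⟨U, hU, a, rfl⟩ := ((push f).obj G).presheaf.exists_germ_eq a
  let W : Y.Opens := U ⊓ ⟨(Set.range f.base)ᶜ, f.isClosedEmbedding.isClosed_range.isOpen_compl⟩
  have hW : f ⁻¹ᵁ W = ⊥ :=
    TopologicalSpace.Opens.ext (Set.eq_empty_iff_forall_notMem.2 fun z hz => hz.2 ⟨z, rfl⟩)
  haveI : Subsingleton Γ(X, f ⁻¹ᵁ W) := by rw [hW]; infer_instance
  haveI h2 : Subsingleton Γ(G, f ⁻¹ᵁ W) := Module.subsingleton Γ(X, f ⁻¹ᵁ W) _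
  have h3 : Subsingleton Γ((push f).obj G, W) := h2
  rw [← TopCat.Presheaf.germ_res_apply _ (homOfLE (inf_le_left : W ≤ U)) y ⟨hU, hy⟩,
    Subsingleton.elim (((push f).obj G).presheaf.map (homOfLE (inf_le_left : W ≤ U)).op a) 0, map_zero]

/-- A module killed by the ideal of a closed immersion, on stalks. -/
structure Killed (F : Y.Modules) : Prop where
  /-- Killed by the kernel of `O_{fx} → O_x`. -/
  smul_eq_zero : ∀ (x : X) (r : Y.presheaf.stalk (f.base x)), (f.stalkMap x).hom r = 0 →
    ∀ a : F.presheaf.stalk (f.base x), r • a = 0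
  /-- No stalks off the image. -/
  subsingleton : ∀ y : Y, y ∉ Set.range f.base → Subsingleton (F.presheaf.stalk y)

theorem killed_push [IsClosedImmersion f] (G : X.Modules) : Killed f ((push f).obj G) := by
  refine ⟨fun x r hr a => (pushStalk_bijective f G x).1 ?_, fun y hy => subsingleton_stalk_push f G y hy⟩
  rw [pushStalk_smul, hr, zero_smul, map_zero]

theorem pullStalk_bijective_of_killed [IsClosedImmersion f] {F : Y.Modules} (hF : Killed f F) (x : X) :
    Function.Bijective (H06Mod.pullStalk f F x) := by
  have hsurj : Function.Surjective (f.stalkMap x).hom := f.stalkMap_surjective x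
  let A := Y.presheaf.stalk (f.base x)
  let B := X.presheaf.stalk x
  let M := F.presheaf.stalk (f.base x)
  have h : Function.Bijective (fun m : M => (1 : B) ⊗ₜ[A] m) := by
    constructor
    · intro a b hab
      let g := Function.surjInv hsurj
      have hg : ∀ b, (f.stalkMap x).hom (g b) = b := Function.surjInv_eq hsurj
      have key : ∀ r s : A, (f.stalkMap x).hom r = (f.stalkMap x).hom s → ∀ m : M, r • m = s • m :=
        fun r s hrs m => sub_eq_zero.1 (by
          rw [← sub_smul]
          exact hF.smul_eq_zero x _ (by rw [map_sub, hrs, sub_self]) m)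
      let back : B ⊗[A] M →ₗ[A] M := TensorProduct.lift
        { toFun := fun b =>
            { toFun := fun m => g b • m
              map_add' := fun _ _ => smul_add _ _ _
              map_smul' := fun s m => by rw [RingHom.id_apply, smul_comm] }
          map_add' := fun b c => LinearMap.ext fun m => by
            show g (b + c) • m = g b • m + g c • m
            rw [← add_smul]
            exact key _ _ (by rw [map_add, hg, hg, hg]) m
          map_smul' := fun s b => LinearMap.ext fun m => by
            show g (s • b) • m = s • g b • m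
            rw [smul_smul]
            exact key _ _ (by rw [map_mul, hg, hg, Algebra.smul_def]; rfl) m }
      have hb : ∀ m : M, back ((1 : B) ⊗ₜ[A] m) = m := fun m => by
        show g 1 • m = m
        exact (key _ 1 (by rw [hg, map_one]) m).trans (one_smul A m)
      rw [← hb a, ← hb b]
      exact congrArg back hab
    · intro t
      induction t using TensorProduct.induction_on with
      | zero => exact ⟨0, TensorProduct.tmul_zero _ _⟩
      | add a b ha hb =>
        obtain ⟨m, rfl⟩ := ha
        obtain ⟨n, rfl⟩ := hb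
        exact ⟨m + n, TensorProduct.tmul_add _ _ _⟩
      | tmul r m =>
        obtain ⟨s, rfl⟩ := hsurj r
        refine ⟨s • m, ?_⟩
        show (1 : B) ⊗ₜ[A] (s • m) = _
        rw [TensorProduct.tmul_smul, TensorProduct.smul_tmul', Algebra.smul_def, mul_one]
        rfl
  have h2 : H06Mod.pullStalk f F x = H06Mod.pullStalkEquiv f F x ∘ fun m : M => (1 : B) ⊗ₜ[A] m := by
    funext m
    exact ((H06Mod.pullStalkLin_tmul f F x 1 m).trans (one_smul _ _)).symm
  rw [h2]
  exact (H06Mod.pullStalkEquiv f F x).bijective.comp h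

theorem isIso_unit_of_killed [IsClosedImmersion f] {F : Y.Modules} (hF : Killed f F) :
    IsIso ((adj f).unit.app F) := by
  refine isIso_of_stalk _ fun y => (ConcreteCategory.isIso_iff_bijective _).2 ?_
  show Function.Bijective ((TopCat.Presheaf.stalkFunctor Ab.{u} y).map ((adj f).unit.app F).mapPresheaf)
  by_cases hy : y ∈ Set.range f.base
  · obtain ⟨x, rfl⟩ := hy
    refine ((pushStalk_bijective f _ x).of_comp_iff' _).1 ?_
    convert! pullStalk_bijective_of_killed f hF x using 1
    funext a
    exact pushStalk_unit f F x a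
  · haveI := hF.subsingleton y hy
    haveI := subsingleton_stalk_push f ((pull f).obj F) y hy
    exact ⟨fun (a b : F.presheaf.stalk y) _ => Subsingleton.elim a b,
      fun (b : ((push f).obj ((pull f).obj F)).presheaf.stalk y) =>
        ⟨(0 : F.presheaf.stalk y), Subsingleton.elim _ b⟩⟩

theorem isIso_counit_of_isClosedImmersion [IsClosedImmersion f] (G : X.Modules) :
    IsIso ((adj f).counit.app G) := by
  haveI := isIso_unit_of_killed f (killed_push f G)
  haveI : IsIso ((push f).map ((adj f).counit.app G)) :=
    IsIso.of_isIso_fac_left ((adj f).right_triangle_components G)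
  refine isIso_of_stalk _ fun x => (ConcreteCategory.isIso_iff_bijective _).2 ?_
  show Function.Bijective ((TopCat.Presheaf.stalkFunctor Ab.{u} x).map ((adj f).counit.app G).mapPresheaf)
  have h : Function.Bijective ((TopCat.Presheaf.stalkFunctor Ab.{u} (f.base x)).map
      ((push f).map ((adj f).counit.app G)).mapPresheaf) :=
    ConcreteCategory.bijective_of_isIso
      ((DerSch.stalkFunctor Y (f.base x)).map ((push f).map ((adj f).counit.app G)))
  refine (Function.Bijective.of_comp_iff _ (pushStalk_bijective f _ x)).1 ?_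
  convert! (pushStalk_bijective f G x).comp h using 1
  funext a
  exact (pushStalk_naturality f ((adj f).counit.app G) x a).symm

/-- The terms of `f_* I ⊗ P` are killed by the ideal. -/
theorem killed_tot [IsClosedImmersion f] (I : CochainComplex X.Modules ℤ)
    (P : CochainComplex Y.Modules ℤ) (n : ℤ) :
    Killed f (((tot (DCoh.tensorBi (X := Y)) ((pushCx f).obj I)).obj P).X n) := by
  let T : ∀ y : Y, CochainComplex (ModuleCat.{u} (Y.presheaf.stalk y)) ℤ := fun y =>
    (tot (curriedTensor (ModuleCat.{u} (Y.presheaf.stalk y)))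
      (((DerSch.stalkFunctor Y y).mapHomologicalComplex (ComplexShape.up ℤ)).obj ((pushCx f).obj I))).obj
      (((DerSch.stalkFunctor Y y).mapHomologicalComplex (ComplexShape.up ℤ)).obj P)
  have key : ∀ (y : Y) (r : Y.presheaf.stalk y),
      (∀ p (a : (DerSch.stalkFunctor Y y).obj (((pushCx f).obj I).X p)), r • a = 0) →
      ∀ a : (((tot (DCoh.tensorBi (X := Y)) ((pushCx f).obj I)).obj P).X n).presheaf.stalk y,
        r • a = 0 := by
    intro y r hr a
    let e := ((HomologicalComplex.eval _ _ n).mapIso (stalkTotIso y ((pushCx f).obj I) P)).toLinearEquiv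
    have h : r • 𝟙 ((T y).X n) = 0 := by
      refine HomologicalComplex.mapBifunctor.hom_ext fun p q hpq => ?_
      refine Eq.trans (ModuleCat.hom_ext (TensorProduct.ext' fun
        (a : ((((DerSch.stalkFunctor Y y).mapHomologicalComplex (ComplexShape.up ℤ)).obj ((pushCx f).obj I)).X p : ModuleCat.{u} (Y.presheaf.stalk y)))
        (b : ((((DerSch.stalkFunctor Y y).mapHomologicalComplex (ComplexShape.up ℤ)).obj P).X q : ModuleCat.{u} (Y.presheaf.stalk y))) => ?_)) comp_zero.symm
      refine (map_smul (HomologicalComplex.ιMapBifunctor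
        (((DerSch.stalkFunctor Y y).mapHomologicalComplex (ComplexShape.up ℤ)).obj ((pushCx f).obj I))
        (((DerSch.stalkFunctor Y y).mapHomologicalComplex (ComplexShape.up ℤ)).obj P)
        (curriedTensor (ModuleCat.{u} (Y.presheaf.stalk y))) (ComplexShape.up ℤ) p q n hpq).hom r
        (a ⊗ₜ[Y.presheaf.stalk y] b)).symm.trans ?_
      have h0 : r • (a ⊗ₜ[Y.presheaf.stalk y] b) = 0 :=
        (TensorProduct.smul_tmul' r a b).trans
          ((congrArg (fun t => t ⊗ₜ[Y.presheaf.stalk y] b) (show r • a = 0 from hr p a)).trans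
            (TensorProduct.zero_tmul _ b))
      refine (congrArg _ h0).trans ?_
      exact map_zero _
    refine e.injective ((e.map_smul r a).trans (Eq.trans ?_ e.map_zero.symm))
    exact LinearMap.congr_fun (congrArg ModuleCat.Hom.hom h) (e a)
  refine ⟨fun x r hr a => key _ r (fun p b => (killed_push f (I.X p)).smul_eq_zero x r hr b) a,
    fun y hy => subsingleton_of_forall_eq 0 fun a => ?_⟩
  rw [← one_smul (Y.presheaf.stalk y) a]
  exact key y 1 (fun p b =>
    haveI := subsingleton_stalk_push f (I.X p) y hy
    @Subsingleton.elim (((push f).obj (I.X p)).presheaf.stalk y) _ _ _) a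

theorem isIso_Ψ_of_isClosedImmersion [IsClosedImmersion f] (I : CochainComplex X.Modules ℤ)
    (P : CochainComplex Y.Modules ℤ) : IsIso (Ψ f I P) := by
  haveI : IsIso ((mapHomologicalComplexAdj (adj f) (ComplexShape.up ℤ)).counit.app I) := by
    haveI : ∀ i, IsIso (((mapHomologicalComplexAdj (adj f) (ComplexShape.up ℤ)).counit.app I).f i) :=
      fun i => isIso_counit_of_isClosedImmersion f (I.X i)
    exact HomologicalComplex.Hom.isIso_of_components _
  haveI : IsIso ((mapHomologicalComplexAdj (adj f) (ComplexShape.up ℤ)).unit.app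
      ((tot (DCoh.tensorBi (X := Y)) ((pushCx f).obj I)).obj P)) := by
    haveI : ∀ i, IsIso (((mapHomologicalComplexAdj (adj f) (ComplexShape.up ℤ)).unit.app
      ((tot (DCoh.tensorBi (X := Y)) ((pushCx f).obj I)).obj P)).f i) :=
      fun i => isIso_unit_of_killed f (killed_tot f I P i)
    exact HomologicalComplex.Hom.isIso_of_components _
  rw [Ψ, Adjunction.homEquiv_unit]
  infer_instance

theorem preservesHomology_push [IsClosedImmersion f] : (push f).PreservesHomology := by
  haveI : (push f).IsRightAdjoint := (adj f).isRightAdjoint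
  haveI : PreservesFiniteLimits (push f) := inferInstance
  haveI : (push f).PreservesEpimorphisms :=
    ⟨fun g _ => LeadProper.epi_push_map_of_isClosedImmersion f g⟩
  exact (push f).preservesHomology_of_preservesEpis_and_kernels

/-- `Rf_* K = f_* K` for a closed immersion. -/
noncomputable def rpushObjIsoOfClosed [IsClosedImmersion f] [DCoh.HasRpush f]
    {K I : CochainComplex X.Modules ℤ} (j : K ⟶ I) [QuasiIso j] [I.IsKInjective] :
    (DCoh.Rpush f).obj (DerivedCategory.Q.obj K) ≅ DerivedCategory.Q.obj ((pushCx f).obj K) :=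
  haveI := preservesHomology_push f
  haveI : IsIso (DerivedCategory.Q.map j) :=
    (DerivedCategory.isIso_Q_map_iff_quasiIso X.Modules j).2 inferInstance
  haveI : IsIso (DerivedCategory.Q.map ((pushCx f).map j)) :=
    (DerivedCategory.isIso_Q_map_iff_quasiIso Y.Modules _).2 inferInstance
  (DCoh.Rpush f).mapIso (asIso (DerivedCategory.Q.map j)) ≪≫ rpushObjIso f I ≪≫
    (asIso (DerivedCategory.Q.map ((pushCx f).map j))).symm

/-- `Rf_* E ⊗^L P ≅ Rf_*(E ⊗^L f^* P)` for a closed immersion. -/
theorem nonempty_projection_formula_of_isClosedImmersion [IsClosedImmersion f] [DCoh.HasRpush f]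
    (P : CochainComplex Y.Modules ℤ) (hP : DCoh.IsKFlat P)
    [DCoh.HasLTensorCx P] [DCoh.HasLTensorCx ((pullCx f).obj P)] (E : DCoh.D X) :
    Nonempty ((DCoh.LTensorCx P).obj ((DCoh.Rpush f).obj E) ≅
      (DCoh.Rpush f).obj ((DCoh.LTensorCx ((pullCx f).obj P)).obj E)) := by
  haveI := isGrothendieckAbelian_modules (X := X)
  obtain ⟨N, j, hN⟩ := KInjRes.exists_resolution_functor (A := X.Modules)
  let C := DerivedCategory.Q.objPreimage E
  haveI := (hN C).2.1
  haveI := (hN C).2.2.1
  let eC := rpushObjIsoOfClosed f (j.app C)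
  let eE := DerivedCategory.Q.objObjPreimageIso E
  have hK := isKFlat_pullback f ((isKFlat_iff' P).1 hP)
  let M := (tot (DCoh.tensorBi (X := X)) C).obj ((pullCx f).obj P)
  haveI := (hN M).2.1
  haveI := (hN M).2.2.1
  haveI := isIso_Ψ_of_isClosedImmersion f C P
  exact ⟨(DCoh.LTensorCx P).mapIso ((DCoh.Rpush f).mapIso eE.symm ≪≫ eC) ≪≫
    ltensorCxObjIso P hP _ ≪≫ DerivedCategory.Q.mapIso (asIso (Ψ f C P)) ≪≫
    (rpushObjIsoOfClosed f (j.app M)).symm ≪≫ (DCoh.Rpush f).mapIso (
      (ltensorCxObjIso _ ((isKFlat_iff' _).2 hK) C).symm ≪≫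
        (DCoh.LTensorCx ((pullCx f).obj P)).mapIso eE)⟩

end Groth.Agent.H16Derived.ProjFormula
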