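import Groth.Agent.H16Derived.ProjFormula.Free
import Groth.Agent.H16Derived.KFlat.PerfTri
import Groth.Agent.H16Derived.KFlat.PushPull
import Groth.Agent.H16Derived.KFlat.TorAmp
import Groth.Agent.H16Derived.QCohD.Perfect
import Groth.Agent.H16Derived.KInjRes.Main
import Mathlib.Algebra.Homology.DerivedCategory.Fractions

/-!
# The projection formula for perfect objects
-/

set_option autoImplicit false
set_option linter.style.haveILetI false

universe v v' u u'

open CategoryTheory CategoryTheory.Limits AlgebraicGeometry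

attribute [local instance] HasDerivedCategory.standard

namespace Groth.Agent.H16Derived.ProjFormula

open Groth.Agent.H16Derived.KFlat Groth.Agent.H16Derived.KFlat.Stalk

variable {X Y : Scheme.{u}}

/-- A map which is a quasi-isomorphism near every point is a quasi-isomorphism. -/
theorem quasiIso_of_cover {K L : CochainComplex Y.Modules ℤ} (φ : K ⟶ L)
    (h : ∀ y : Y, ∃ V : Y.Opens, y ∈ V ∧ QisOn V φ) : QuasiIso φ := by
  refine ⟨fun i => ?_⟩
  rw [quasiIsoAt_iff_isIso_homologyMap]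
  refine isIso_of_stalk _ fun y => ?_
  obtain ⟨V, hy, hV⟩ := h y
  haveI : IsIso ((Scheme.Modules.restrictFunctor V.ι).map (HomologicalComplex.homologyMap φ i)) := by
    haveI : QuasiIso ((DCoh.restrictCx V).map φ) := hV
    let σ := (HomologicalComplex.shortComplexFunctor Y.Modules (ComplexShape.up ℤ) i).map φ
    have hiso : IsIso (((Scheme.Modules.restrictFunctor V.ι).mapShortComplex ⋙
        ShortComplex.homologyFunctor (V : Scheme.{u}).Modules).map σ) :=
      inferInstanceAs (IsIso (HomologicalComplex.homologyMap ((DCoh.restrictCx V).map φ) i))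
    exact (NatIso.isIso_map_iff (ShortComplex.homologyFunctorIso (Scheme.Modules.restrictFunctor V.ι)) σ).1 hiso
  exact QCohD.MV.isIso_stalk_of_restrict V _ y hy

/-- `(Z[0])_y` is flat for `Z = j_! O_V`. -/
theorem isFlat_N₁ (V : Y.Opens) : FlatMod.IsFlat (N₁ V) := by
  intro y
  let F := DerSch.stalkFunctor Y y
  show Module.Flat (Y.presheaf.stalk y) (F.obj (N₁ V))
  by_cases hy : y ∈ V
  · haveI := isIso_res_εN V
    haveI := QCohD.MV.isIso_stalk_of_restrict V (εN V) y hy
    haveI : Module.Flat (Y.presheaf.stalk y) (F.obj (Coh.structureModule Y)) :=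
      isFlat_structureModule y
    exact Module.Flat.of_linearEquiv (asIso (F.map (εN V))).toLinearEquiv
  · have e : N₁ V ≅ (QCohD.MV.E V).obj (Coh.structureModule Y) :=
      (CxOX.extZero V.ι).mapIso (Scheme.Modules.restrictUnitIso V.ι).symm
    haveI : Subsingleton (F.obj (N₁ V)) := ModuleCat.subsingleton_of_isZero
      ((QCohD.MV.isZero_stalk_E V _ y hy).of_iso (F.mapIso e))
    infer_instance

/-- Finite sums of `j_! O_V` are flat. -/
theorem isFlat_sum_N₁ (V : Y.Opens) (n : ℕ) : FlatMod.IsFlat (∐ fun _ : Fin n => N₁ V) := by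
  let e : (∐ fun _ : Fin n => N₁ V) ≅ ∐ fun _ : ULift.{u} (Fin n) => N₁ V :=
    Sigma.whiskerEquiv (f := fun _ : Fin n => N₁ V) (g := fun _ : ULift.{u} (Fin n) => N₁ V)
      Equiv.ulift.symm fun _ => Iso.refl _
  exact isFlat_of_retract e.hom e.inv e.hom_inv_id (isFlat_sigma _ fun _ => isFlat_N₁ V)

theorem isKFlat_of_freeOn {V : Y.Opens} {S : CochainComplex Y.Modules ℤ} (hS : FreeOn V S) :
    IsKFlat (DCoh.tensorBi (X := Y)) S := by
  obtain ⟨⟨a, b, hab⟩, hterm⟩ := hS
  refine kflat_of_boundedAbove S b (fun q hq => hab q (Or.inr hq)) fun q => ?_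
  obtain ⟨n, ⟨e⟩⟩ := hterm q
  exact isFlat_of_retract e.hom e.inv e.hom_inv_id (isFlat_sum_N₁ V n)

variable (f : X ⟶ Y) (N : CochainComplex X.Modules ℤ ⥤ CochainComplex X.Modules ℤ) (j : 𝟭 _ ⟶ N)
  (hN : ∀ M, QuasiIso (j.app M) ∧ (N.obj M).IsKInjective) (I : CochainComplex X.Modules ℤ)

/-- The derived projection formula map. -/
noncomputable def ΨN (P : CochainComplex Y.Modules ℤ) :
    (tot (DCoh.tensorBi (X := Y)) ((pushCx f).obj I)).obj P ⟶
      (pushCx f).obj (N.obj ((tot (DCoh.tensorBi (X := X)) I).obj ((pullCx f).obj P))) :=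
  Ψ f I P ≫ (pushCx f).map (j.app _)

theorem ΨN_naturality {P P' : CochainComplex Y.Modules ℤ} (φ : P ⟶ P') :
    (tot (DCoh.tensorBi (X := Y)) ((pushCx f).obj I)).map φ ≫ ΨN f N j I P' =
      ΨN f N j I P ≫
        (pushCx f).map (N.map ((tot (DCoh.tensorBi (X := X)) I).map ((pullCx f).map φ))) := by
  rw [ΨN, ΨN, ← Category.assoc, Ψ_naturality, Category.assoc, Category.assoc, ← Functor.map_comp,
    ← Functor.map_comp]
  exact congrArg (fun t => Ψ f I P ≫ (pushCx f).map t) (j.naturality _)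

/-- Pushforward of maps between complexes K-injective over `f⁻¹ V`. -/
theorem qisOn_push (V : Y.Opens) {K L : CochainComplex X.Modules ℤ} (φ : K ⟶ L)
    (hK : ((DCoh.restrictCx (f ⁻¹ᵁ V)).obj K).IsKInjective)
    (hL : ((DCoh.restrictCx (f ⁻¹ᵁ V)).obj L).IsKInjective) (hφ : QisOn (f ⁻¹ᵁ V) φ) :
    QisOn V ((pushCx f).map φ) := by
  let g := Scheme.Modules.pushforward (f ∣_ V)
  let gCx := g.mapHomologicalComplex (ComplexShape.up ℤ)
  have hq : QuasiIso (gCx.map ((DCoh.restrictCx (f ⁻¹ᵁ V)).map φ)) := by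
    haveI := hK
    haveI := hL
    haveI : QuasiIso ((DCoh.restrictCx (f ⁻¹ᵁ V)).map φ) := hφ
    exact quasiIso_map_of_isKInjective g _
  let e := NatIso.mapHomologicalComplex (pushRestrictNatIso f V) (ComplexShape.up ℤ)
  have h : (DCoh.restrictCx V).map ((pushCx f).map φ) =
      e.hom.app K ≫ gCx.map ((DCoh.restrictCx (f ⁻¹ᵁ V)).map φ) ≫ e.inv.app L := by
    refine HomologicalComplex.hom_ext _ _ fun i => ?_
    exact (((pushRestrictNatIso f V).app _).eq_comp_inv.2
      ((pushRestrictNatIso f V).hom.naturality (φ.f i))).trans (Category.assoc _ _ _)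
  show QuasiIso _
  rw [h]
  exact quasiIso_comp (hφ := inferInstance) (hφ' := quasiIso_comp (hφ := hq) (hφ' := inferInstance) _ (e.inv.app L)) (e.hom.app K) _

variable {f N j hN I}

include hN in
/-- The class of `P` for which the projection formula holds over `V` only depends on `P` over `V`. -/
theorem qisOn_ΨN_iff (V : Y.Opens) {P P' : CochainComplex Y.Modules ℤ}
    (hP : IsKFlat (DCoh.tensorBi (X := Y)) P) (hP' : IsKFlat (DCoh.tensorBi (X := Y)) P')
    (φ : P ⟶ P') (hφ : QisOn V φ) : QisOn V (ΨN f N j I P) ↔ QisOn V (ΨN f N j I P') := by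
  let TY := DCoh.tensorBi (X := Y)
  let TX := DCoh.tensorBi (X := X)
  let FL := tot TY ((pushCx f).obj I)
  let FR := pullCx f ⋙ tot TX I
  have hL : QisOn V (FL.map φ) := by
    refine qisOn_map V V FL φ hP hP' hφ (fun S hS hsp => ?_) (fun π s h₁ h₂ => ?_)
      (fun W hK hW => acyclic_restrict_tot V _ hW hK)
    · exact ⟨S.map FL, shortExact_tot TY _ S fun p q =>
        isFSES_of_splitting (F := TY) S hsp _ q, Iso.refl _, Iso.refl _, Iso.refl _,
        (Category.comp_id _).trans (Category.id_comp _).symm⟩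
    · exact quasiIso_tot_map_of_homotopy_inverse (F := TY) _ π s h₁ h₂
  have hR₀ : QisOn (f ⁻¹ᵁ V) (FR.map φ) := by
    refine qisOn_map V (f ⁻¹ᵁ V) FR φ hP hP' hφ (fun S hS hsp => ?_) (fun π s h₁ h₂ => ?_)
      (fun W hK hW => acyclic_restrict_tot _ _ (acyclic_restrict_pullback f V hW hK)
        (isKFlat_pullback f hK))
    · exact ⟨S.map FR, shortExact_tot TX I (S.map (pullCx f)) fun p q =>
        (((hsp q).some.map (pull f)).map (TX.obj (I.X p))).shortExact,
        Iso.refl _, Iso.refl _, Iso.refl _, (Category.comp_id _).trans (Category.id_comp _).symm⟩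
    · exact quasiIso_tot_map_of_homotopy_inverse (F := TX) I ((pullCx f).map π) ((pullCx f).map s)
        ⟨(Homotopy.ofEq ((pullCx f).map_comp π s).symm).trans
          (((pull f).mapHomotopy h₁.some).trans (Homotopy.ofEq ((pullCx f).map_id _)))⟩
        ⟨(Homotopy.ofEq ((pullCx f).map_comp s π).symm).trans
          (((pull f).mapHomotopy h₂.some).trans (Homotopy.ofEq ((pullCx f).map_id _)))⟩
  have hR : QisOn V ((pushCx f).map (N.map (FR.map φ))) := by
    haveI := (hN (FR.obj P)).2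
    haveI := (hN (FR.obj P')).2
    refine qisOn_push f V _ (isKInjective_restrict _ _) (isKInjective_restrict _ _) ?_
    haveI : QuasiIso ((DCoh.restrictCx (f ⁻¹ᵁ V)).map (FR.map φ)) := hR₀
    haveI : QuasiIso ((DCoh.restrictCx (f ⁻¹ᵁ V)).map (j.app (FR.obj P))) :=
      haveI := (hN (FR.obj P)).1; qisOn_of_quasiIso _ _
    haveI : QuasiIso ((DCoh.restrictCx (f ⁻¹ᵁ V)).map (j.app (FR.obj P'))) :=
      haveI := (hN (FR.obj P')).1; qisOn_of_quasiIso _ _
    haveI : QuasiIso ((DCoh.restrictCx (f ⁻¹ᵁ V)).map (j.app (FR.obj P)) ≫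
        (DCoh.restrictCx (f ⁻¹ᵁ V)).map (N.map (FR.map φ))) := by
      have hnat : j.app (FR.obj P) ≫ N.map (FR.map φ) = FR.map φ ≫ j.app (FR.obj P') :=
        (j.naturality (FR.map φ)).symm
      rw [← Functor.map_comp, hnat, Functor.map_comp]
      infer_instance
    exact quasiIso_of_comp_left ((DCoh.restrictCx (f ⁻¹ᵁ V)).map (j.app (FR.obj P))) _
  have hnat : (DCoh.restrictCx V).map (FL.map φ) ≫ (DCoh.restrictCx V).map (ΨN f N j I P') =
      (DCoh.restrictCx V).map (ΨN f N j I P) ≫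
        (DCoh.restrictCx V).map ((pushCx f).map (N.map (FR.map φ))) :=
    ((DCoh.restrictCx V).map_comp _ _).symm.trans
      ((congrArg (DCoh.restrictCx V).map (ΨN_naturality f N j I φ)).trans
        ((DCoh.restrictCx V).map_comp _ _))
  haveI : QuasiIso ((DCoh.restrictCx V).map (FL.map φ)) := hL
  haveI : QuasiIso ((DCoh.restrictCx V).map ((pushCx f).map (N.map (FR.map φ)))) := hR
  constructor
  · intro h
    haveI : QuasiIso ((DCoh.restrictCx V).map (ΨN f N j I P)) := h
    haveI : QuasiIso ((DCoh.restrictCx V).map (FL.map φ) ≫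
        (DCoh.restrictCx V).map (ΨN f N j I P')) := by rw [hnat]; infer_instance
    exact quasiIso_of_comp_left ((DCoh.restrictCx V).map (FL.map φ)) _
  · intro h
    haveI : QuasiIso ((DCoh.restrictCx V).map (ΨN f N j I P')) := h
    haveI : QuasiIso ((DCoh.restrictCx V).map (ΨN f N j I P) ≫
        (DCoh.restrictCx V).map ((pushCx f).map (N.map (FR.map φ)))) := by
      rw [← hnat]; infer_instance
    exact quasiIso_of_comp_right _ ((DCoh.restrictCx V).map ((pushCx f).map (N.map (FR.map φ))))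

include hN in
/-- The projection formula over `V` for bounded complexes with terms `j_! O_V^n`. -/
theorem qisOn_ΨN_freeOn [I.IsKInjective] (V : Y.Opens) {S : CochainComplex Y.Modules ℤ}
    (hS : FreeOn V S) : QisOn V (ΨN f N j I S) := by
  haveI := isIso_restrict_Ψ f V I hS
  let M := (tot (DCoh.tensorBi (X := X)) I).obj ((pullCx f).obj S)
  haveI := (hN M).2
  have h : QisOn V ((pushCx f).map (j.app M)) :=
    qisOn_push f V _ (isKInjective_TU f V I hS) (isKInjective_restrict _ _)
      (haveI := (hN M).1; qisOn_of_quasiIso _ _)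
  haveI : QuasiIso ((DCoh.restrictCx V).map ((pushCx f).map (j.app M))) := h
  show QuasiIso _
  rw [ΨN, Functor.map_comp]
  exact quasiIso_comp (hφ := inferInstance) (hφ' := h) ((DCoh.restrictCx V).map (Ψ f I S)) _

/-- Isomorphic K-flat complexes are linked by quasi-isomorphisms of K-flat complexes. -/
theorem exists_roof {P P' : CochainComplex Y.Modules ℤ}
    (e : DerivedCategory.Q.obj P ≅ DerivedCategory.Q.obj P') :
    ∃ (P'' : CochainComplex Y.Modules ℤ) (s : P'' ⟶ P) (g : P'' ⟶ P'),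
      IsKFlat (DCoh.tensorBi (X := Y)) P'' ∧ QuasiIso s ∧ QuasiIso g := by
  obtain ⟨X', s, hs, g, h⟩ := DerivedCategory.right_fac e.hom
  have hr : QuasiIso ((resψ (X := Y)).app X') := quasiIso_resψ X'
  have hs' : QuasiIso s := (DerivedCategory.isIso_Q_map_iff_quasiIso Y.Modules s).1 hs
  have hg : IsIso (DerivedCategory.Q.map g) := by
    have h2 : DerivedCategory.Q.map g = DerivedCategory.Q.map s ≫ e.hom := by
      rw [h]
      exact (@IsIso.hom_inv_id_assoc _ _ _ _ (DerivedCategory.Q.map s) hs _ _).symm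
    rw [h2]
    exact @IsIso.comp_isIso _ _ _ _ _ (DerivedCategory.Q.map s) e.hom hs inferInstance
  have hg' : QuasiIso g := (DerivedCategory.isIso_Q_map_iff_quasiIso Y.Modules g).1 hg
  exact ⟨(KFlat.Stalk.res (X := Y)).obj X', (resψ (X := Y)).app X' ≫ s, (resψ (X := Y)).app X' ≫ g,
    isKFlat_res X', quasiIso_comp (hφ := hr) (hφ' := hs') _ s,
    quasiIso_comp (hφ := hr) (hφ' := hg') _ g⟩

include hN in
/-- The projection formula for perfect objects. -/
theorem quasiIso_ΨN [I.IsKInjective] {P : CochainComplex Y.Modules ℤ}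
    (hP : IsKFlat (DCoh.tensorBi (X := Y)) P) (hperf : DCoh.IsPerfect (DerivedCategory.Q.obj P)) :
    QuasiIso (ΨN f N j I P) := by
  refine quasiIso_of_cover _ fun y => ?_
  obtain ⟨V, hy, E, ⟨a, b, hab⟩, hE, ⟨α⟩⟩ := QCohD.exists_freeModel hperf y
  refine ⟨V, hy, ?_⟩
  haveI := preservesFiniteLimits_extZero V
  let S := ((CxOX.extZero V.ι).mapHomologicalComplex (ComplexShape.up ℤ)).obj E
  haveI := preservesColimitsOfSize_shrink.{0, u, 0, u} (CxOX.extZero V.ι)
  have hS : FreeOn V S :=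
    ⟨⟨a, b, fun q hq => (CxOX.extZero V.ι).map_isZero (hab q hq)⟩, fun q =>
      ⟨(hE q).choose, ⟨(CxOX.extZero V.ι).mapIso (hE q).choose_spec.some ≪≫
        PreservesCoproduct.iso (CxOX.extZero V.ι) _⟩⟩⟩
  let P' := (QCohD.MV.EC V).obj P
  have hε : QisOn V (QCohD.MV.εC V P) := by
    haveI : ∀ q, IsIso (((DCoh.restrictCx V).map (QCohD.MV.εC V P)).f q) := fun q =>
      QCohD.MV.isIso_restrict_ε V (P.X q)
    haveI : IsIso ((DCoh.restrictCx V).map (QCohD.MV.εC V P)) :=
      HomologicalComplex.Hom.isIso_of_components _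
    show QuasiIso _
    infer_instance
  let e : DerivedCategory.Q.obj P' ≅ DerivedCategory.Q.obj S :=
    (QCohD.MV.extZeroDIso V P).symm ≪≫ (CxOX.extZeroD V.ι).mapIso α.symm ≪≫
      (CxOX.extZero V.ι).mapDerivedCategoryFactors.app E
  obtain ⟨P'', s, g, hP'', hs, hg⟩ := exists_roof e
  haveI := hs
  haveI := hg
  have hsε : QisOn V (s ≫ QCohD.MV.εC V P) := by
    haveI : QuasiIso ((DCoh.restrictCx V).map s) := qisOn_of_quasiIso V s
    haveI : QuasiIso ((DCoh.restrictCx V).map (QCohD.MV.εC V P)) := hε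
    show QuasiIso _
    rw [Functor.map_comp]
    infer_instance
  refine (qisOn_ΨN_iff (hN := hN) V hP'' hP _ hsε).1 ?_
  exact (qisOn_ΨN_iff (hN := hN) V hP'' (isKFlat_of_freeOn hS) g (qisOn_of_quasiIso V g)).2
    (qisOn_ΨN_freeOn (hN := hN) V hS)

/-- `Rf_* I = f_* I`. -/
noncomputable def rpushObjIso (f : X ⟶ Y) [DCoh.HasRpush f] (I : CochainComplex X.Modules ℤ)
    [I.IsKInjective] :
    (DCoh.Rpush f).obj (DerivedCategory.Q.obj I) ≅ DerivedCategory.Q.obj ((pushCx f).obj I) :=
  haveI := isIso_rpushUnit f I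
  (DCoh.Rpush f).mapIso ((DerivedCategory.quotientCompQhIso X.Modules).app I).symm ≪≫
    (asIso ((rpushUnit f).app ((HomotopyCategory.quotient _ _).obj I))).symm ≪≫
    DerivedCategory.Qh.mapIso (((push f).mapHomotopyCategoryFactors (ComplexShape.up ℤ)).app I) ≪≫
    (DerivedCategory.quotientCompQhIso Y.Modules).app _

/-- `Rf_* E ⊗^L P ≅ Rf_*(E ⊗^L f^* P)` for perfect `P`. -/
theorem nonempty_projection_formula [DCoh.HasRpush f] (P : CochainComplex Y.Modules ℤ)
    (hP : DCoh.IsKFlat P) (hperf : DCoh.IsPerfect (DerivedCategory.Q.obj P))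
    [DCoh.HasLTensorCx P] [DCoh.HasLTensorCx ((pullCx f).obj P)] (E : DCoh.D X) :
    Nonempty ((DCoh.LTensorCx P).obj ((DCoh.Rpush f).obj E) ≅
      (DCoh.Rpush f).obj ((DCoh.LTensorCx ((pullCx f).obj P)).obj E)) := by
  haveI := isGrothendieckAbelian_modules (X := X)
  obtain ⟨N, j, hN⟩ := KInjRes.exists_resolution_functor (A := X.Modules)
  have hN' : ∀ M, QuasiIso (j.app M) ∧ (N.obj M).IsKInjective := fun M => ⟨(hN M).2.1, (hN M).2.2.1⟩
  let C := DerivedCategory.Q.objPreimage E
  let I := N.obj C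
  haveI := (hN' C).2
  haveI := (hN' C).1
  haveI : IsIso (DerivedCategory.Q.map (j.app C)) :=
    (DerivedCategory.isIso_Q_map_iff_quasiIso X.Modules _).2 inferInstance
  let eI : DerivedCategory.Q.obj I ≅ E :=
    (asIso (DerivedCategory.Q.map (j.app C))).symm ≪≫ DerivedCategory.Q.objObjPreimageIso E
  have hK := isKFlat_pullback f ((isKFlat_iff' P).1 hP)
  let M := (tot (DCoh.tensorBi (X := X)) I).obj ((pullCx f).obj P)
  haveI := (hN' M).2
  haveI := (hN' M).1
  haveI : IsIso (DerivedCategory.Q.map (j.app M)) :=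
    (DerivedCategory.isIso_Q_map_iff_quasiIso X.Modules _).2 inferInstance
  haveI := quasiIso_ΨN (f := f) (hN := hN') (I := I) ((isKFlat_iff' P).1 hP) hperf
  haveI : IsIso (DerivedCategory.Q.map (ΨN f N j I P)) :=
    (DerivedCategory.isIso_Q_map_iff_quasiIso Y.Modules _).2 inferInstance
  exact ⟨(DCoh.LTensorCx P).mapIso ((DCoh.Rpush f).mapIso eI.symm ≪≫ rpushObjIso f I) ≪≫
    ltensorCxObjIso P hP _ ≪≫ asIso (DerivedCategory.Q.map (ΨN f N j I P)) ≪≫
    (rpushObjIso f _).symm ≪≫ (DCoh.Rpush f).mapIso (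
      (asIso (DerivedCategory.Q.map (j.app M))).symm ≪≫
        (ltensorCxObjIso _ ((isKFlat_iff' _).2 hK) I).symm ≪≫
        (DCoh.LTensorCx ((pullCx f).obj P)).mapIso eI)⟩

end Groth.Agent.H16Derived.ProjFormula
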