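import Groth.Agent.H16Derived.Dual.Bifunctor
import Groth.Agent.H16Derived.ProjFormula.Free
import Groth.Agent.H16Derived.Thomason.PushTest
import Groth.Agent.H16Derived.Dual.Local

/-!
# Functors sending distinguished triangles to distinguished triangles, and the five lemma for their transformations
-/

set_option autoImplicit false
set_option linter.style.haveILetI false

universe v v' v'' u u' u''

open CategoryTheory CategoryTheory.Limits CategoryTheory.Pretriangulated AlgebraicGeometry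

attribute [local instance] HasDerivedCategory.standard

namespace Groth.Agent.H16Derived.ProjFormula

section

variable {C : Type u} [Category.{v} C] [Preadditive C] [HasZeroObject C] [HasShift C ℤ]
  [∀ n : ℤ, (shiftFunctor C n).Additive] [Pretriangulated C]
  {D : Type u'} [Category.{v'} D] [Preadditive D] [HasZeroObject D] [HasShift D ℤ]
  [∀ n : ℤ, (shiftFunctor D n).Additive] [Pretriangulated D]
  {E : Type u''} [Category.{v''} E] [Preadditive E] [HasZeroObject E] [HasShift E ℤ]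
  [∀ n : ℤ, (shiftFunctor E n).Additive] [Pretriangulated E]

/-- The images of the first two maps of a triangle are the first two maps of a triangle. -/
def PTri (A : C ⥤ D) : Prop :=
  ∀ T : Triangle C, T ∈ distTriang C → ∃ T' : Triangle D, T' ∈ distTriang D ∧
    ∃ (e₁ : T'.obj₁ ≅ A.obj T.obj₁) (e₂ : T'.obj₂ ≅ A.obj T.obj₂) (e₃ : T'.obj₃ ≅ A.obj T.obj₃),
      T'.mor₁ ≫ e₂.hom = e₁.hom ≫ A.map T.mor₁ ∧ T'.mor₂ ≫ e₃.hom = e₂.hom ≫ A.map T.mor₂

theorem ptri_of_isTriangulated (A : C ⥤ D) [A.CommShift ℤ] [A.IsTriangulated] : PTri A := fun T hT =>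
  ⟨_, A.map_distinguished T hT, Iso.refl _, Iso.refl _, Iso.refl _,
    (Category.comp_id _).trans (Category.id_comp _).symm, (Category.comp_id _).trans (Category.id_comp _).symm⟩

theorem PTri.of_iso {A B : C ⥤ D} (e : A ≅ B) (h : PTri A) : PTri B := fun T hT => by
  obtain ⟨T', hT', e₁, e₂, e₃, h₁, h₂⟩ := h T hT
  exact ⟨T', hT', e₁ ≪≫ e.app _, e₂ ≪≫ e.app _, e₃ ≪≫ e.app _,
    by simp [reassoc_of% h₁], by simp [reassoc_of% h₂]⟩

theorem PTri.comp {A : C ⥤ D} {B : D ⥤ E} (hA : PTri A) (hB : PTri B) : PTri (A ⋙ B) := fun T hT => by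
  obtain ⟨T', hT', e₁, e₂, e₃, h₁, h₂⟩ := hA T hT
  obtain ⟨T'', hT'', d₁, d₂, d₃, k₁, k₂⟩ := hB T' hT'
  refine ⟨T'', hT'', d₁ ≪≫ B.mapIso e₁, d₂ ≪≫ B.mapIso e₂, d₃ ≪≫ B.mapIso e₃, ?_, ?_⟩
  · simp [reassoc_of% k₁, ← Functor.map_comp, h₁]
  · simp [reassoc_of% k₂, ← Functor.map_comp, h₂]

/-- Exactness in the middle. -/
theorem PTri.exact {A : C ⥤ D} (hA : PTri A) {T : Triangle C} (hT : T ∈ distTriang C) {W : D}
    (x : W ⟶ A.obj T.obj₂) (hx : x ≫ A.map T.mor₂ = 0) : ∃ y, x = y ≫ A.map T.mor₁ := by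
  obtain ⟨T', hT', e₁, e₂, e₃, h₁, h₂⟩ := hA T hT
  obtain ⟨y, hy⟩ := Triangle.coyoneda_exact₂ T' hT' (x ≫ e₂.inv) (by
    rw [← cancel_mono e₃.hom, Category.assoc, Category.assoc, h₂, Iso.inv_hom_id_assoc, hx, zero_comp])
  exact ⟨y ≫ e₁.hom, by rw [Category.assoc, ← h₁, ← Category.assoc, ← hy, Category.assoc, Iso.inv_hom_id, Category.comp_id]⟩

theorem PTri.zero {A : C ⥤ D} (hA : PTri A) {T : Triangle C} (hT : T ∈ distTriang C) :
    A.map T.mor₁ ≫ A.map T.mor₂ = 0 := by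
  obtain ⟨T', hT', e₁, e₂, e₃, h₁, h₂⟩ := hA T hT
  refine (cancel_epi e₁.hom).1 ?_
  rw [← Category.assoc, ← h₁, Category.assoc, ← h₂, ← Category.assoc,
    comp_distTriang_mor_zero₁₂ T' hT', zero_comp, comp_zero]

/-- The five lemma. -/
theorem isIso_app₃ {A B : C ⥤ D} (hA : PTri A) (hB : PTri B) (τ : A ⟶ B)
    {T : Triangle C} (hT : T ∈ distTriang C) [IsIso (τ.app T.obj₁)] [IsIso (τ.app T.obj₂)]
    [IsIso (τ.app (T.obj₁⟦(1 : ℤ)⟧))] [IsIso (τ.app (T.obj₂⟦(1 : ℤ)⟧))] : IsIso (τ.app T.obj₃) := by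
  refine isIso_of_yoneda_map_bijective _ fun W => ⟨fun x x' hxx => ?_, fun x => ?_⟩
  · rw [← sub_eq_zero]
    have hz : (x - x') ≫ τ.app T.obj₃ = 0 := by rw [Preadditive.sub_comp]; exact sub_eq_zero.2 hxx
    have h3 : (x - x') ≫ A.map T.mor₃ = 0 := by
      rw [← cancel_mono (τ.app (T.obj₁⟦(1 : ℤ)⟧)), Category.assoc, τ.naturality, reassoc_of% hz, zero_comp,
        zero_comp]
    obtain ⟨y, hy⟩ := hA.exact (rot_of_distTriang _ hT) (x - x') h3
    change W ⟶ A.obj T.obj₂ at y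
    have hy' : (y ≫ τ.app T.obj₂) ≫ B.map T.mor₂ = 0 := by
      rw [Category.assoc, ← τ.naturality, ← Category.assoc]
      exact (congrArg (· ≫ τ.app T.obj₃) hy.symm).trans hz
    obtain ⟨z, hz'⟩ := hB.exact hT (y ≫ τ.app T.obj₂) hy'
    have hy2 : y = (z ≫ inv (τ.app T.obj₁)) ≫ A.map T.mor₁ := by
      rw [← cancel_mono (τ.app T.obj₂), hz', Category.assoc, Category.assoc, τ.naturality,
        IsIso.inv_hom_id_assoc]
    rw [hy, hy2]
    show ((z ≫ inv (τ.app T.obj₁)) ≫ A.map T.mor₁) ≫ A.map T.mor₂ = 0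
    rw [Category.assoc, hA.zero hT, comp_zero]
  · let u := (x ≫ B.map T.mor₃) ≫ inv (τ.app (T.obj₁⟦(1 : ℤ)⟧))
    have hu : u ≫ A.map T.rotate.rotate.mor₂ = 0 := by
      have h0 := hB.zero (rot_of_distTriang _ (rot_of_distTriang _ hT))
      change B.map T.mor₃ ≫ B.map (-T.mor₁⟦(1 : ℤ)⟧') = 0 at h0
      show u ≫ A.map (-T.mor₁⟦(1 : ℤ)⟧') = 0
      rw [← cancel_mono (τ.app (T.obj₂⟦(1 : ℤ)⟧)), Category.assoc, τ.naturality, zero_comp]
      simp only [u, Category.assoc, IsIso.inv_hom_id_assoc, h0, comp_zero]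
    obtain ⟨y, hy⟩ := hA.exact (rot_of_distTriang _ (rot_of_distTriang _ hT)) u hu
    change W ⟶ A.obj T.obj₃ at y
    change u = y ≫ A.map T.mor₃ at hy
    have hd : (x - y ≫ τ.app T.obj₃) ≫ B.map T.mor₃ = 0 := by
      rw [Preadditive.sub_comp, Category.assoc, ← τ.naturality, ← Category.assoc, ← hy]
      simp [u]
    obtain ⟨z, hz⟩ := hB.exact (rot_of_distTriang _ hT) _ hd
    change W ⟶ B.obj T.obj₂ at z
    refine ⟨y + (z ≫ inv (τ.app T.obj₂)) ≫ A.map T.mor₂, ?_⟩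
    show (y + _) ≫ τ.app T.obj₃ = x
    rw [Preadditive.add_comp, Category.assoc, τ.naturality, Category.assoc, IsIso.inv_hom_id_assoc]
    exact (congrArg (y ≫ τ.app T.obj₃ + ·) hz.symm).trans (add_sub_cancel _ _)

end

open Groth.Agent.H16Derived.KFlat Groth.Agent.H16Derived.KFlat.Stalk
open Groth.Agent.H16Derived.Thomason (exists_res_map)

variable {X : Scheme.{u}}

/-- `m ⊗^L -` sends triangles to triangles. -/
theorem ptri_TObj (m : DCoh.D X) : PTri ((Dual.T X).obj m) := fun T₀ hT => by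
  obtain ⟨M, -, hM, ⟨eM⟩⟩ := Dual.exists_rep m
  obtain ⟨A, B, g, eA, eB, -, -, hg⟩ := exists_res_map T₀.invRotate.mor₁
  let F := tot (DCoh.tensorBi (X := X)) M
  let S₀ := CochainComplex.mappingCone.triangleRotateShortComplex g
  have hsplit : ∀ n, Nonempty ((S₀.map F).map (HomologicalComplex.eval X.Modules (ComplexShape.up ℤ) n)).Splitting :=
    fun n => nonempty_splitting_tot (DCoh.tensorBi (X := X)) M S₀
      (fun p q => (CochainComplex.mappingCone.triangleRotateShortComplexSplitting g q).map _) n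
  have hSES : (S₀.map F).ShortExact :=
    HomologicalComplex.shortExact_of_degreewise_shortExact _ fun n => (hsplit n).some.shortExact
  let et := isoTriangleOfIso₁₂ _ _ (DerivedCategory.mappingCone_triangle_distinguished g)
    (inv_rot_of_distTriang _ hT) eA eB hg
  let e : DerivedCategory.Q ⋙ (Dual.T X).obj m ≅ F ⋙ DerivedCategory.Q :=
    Functor.isoWhiskerLeft DerivedCategory.Q ((Dual.T X).mapIso eM.symm) ≪≫ Dual.TObjIso M hM
  let c := (shiftEquiv (DCoh.D X) (1 : ℤ)).counitIso.app T₀.obj₃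
  let a₃ := (DerivedCategory.Q.commShiftIso (1 : ℤ)).app A ≪≫ (shiftFunctor _ (1 : ℤ)).mapIso eA
  refine ⟨_, DerivedCategory.triangleOfSES_distinguished hSES,
    (e.app _).symm ≪≫ ((Dual.T X).obj m).mapIso eB,
    (e.app _).symm ≪≫ ((Dual.T X).obj m).mapIso (Triangle.π₃.mapIso et),
    (e.app _).symm ≪≫ ((Dual.T X).obj m).mapIso (a₃ ≪≫ c), ?_, ?_⟩
  · have h2 : DerivedCategory.Q.map S₀.f ≫ et.hom.hom₃ = eB.hom ≫ T₀.mor₁ := by
      have h := et.hom.comm₂
      rw [show et.hom.hom₂ = eB.hom from isoTriangleOfIso₁₂_hom_hom₂ _ _ _ _ _ _ _] at h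
      exact h
    refine (congrArg (DerivedCategory.Q.map (F.map S₀.f) ≫ ·) rfl).trans ?_
    show DerivedCategory.Q.map (F.map S₀.f) ≫ e.inv.app _ ≫ ((Dual.T X).obj m).map et.hom.hom₃ =
      (e.inv.app _ ≫ ((Dual.T X).obj m).map eB.hom) ≫ ((Dual.T X).obj m).map T₀.mor₁
    refine ((Category.assoc _ _ _).symm.trans ((congrArg (· ≫ _) (e.inv.naturality S₀.f)).trans
      (Category.assoc _ _ _))).trans (Eq.trans ?_ (Category.assoc _ _ _).symm)
    exact congrArg (_ ≫ ·) (((Functor.map_comp _ _ _).symm.trans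
      (congrArg ((Dual.T X).obj m).map h2)).trans (Functor.map_comp _ _ _))
  · have h3 : DerivedCategory.Q.map S₀.g ≫ a₃.hom ≫ c.hom = et.hom.hom₃ ≫ T₀.mor₂ := by
      have h : (DerivedCategory.Q.map S₀.g ≫ (DerivedCategory.Q.commShiftIso (1 : ℤ)).hom.app A) ≫
          et.hom.hom₁⟦(1 : ℤ)⟧' = et.hom.hom₃ ≫ T₀.invRotate.mor₃ := et.hom.comm₃
      rw [show et.hom.hom₁ = eA.hom from isoTriangleOfIso₁₂_hom_hom₁ _ _ _ _ _ _ _] at h
      have h' := congrArg (· ≫ c.hom) h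
      simp only [Category.assoc] at h'
      refine Eq.trans ?_ (h'.trans ((Category.assoc _ _ _).trans (congrArg (et.hom.hom₃ ≫ ·) ?_)))
      · exact (Category.assoc _ _ _).symm
      · exact (Category.assoc _ _ _).trans ((congrArg (T₀.mor₂ ≫ ·) c.inv_hom_id).trans (Category.comp_id _))
    show DerivedCategory.Q.map (F.map S₀.g) ≫ e.inv.app _ ≫ ((Dual.T X).obj m).map (a₃.hom ≫ c.hom) =
      (e.inv.app _ ≫ ((Dual.T X).obj m).map et.hom.hom₃) ≫ ((Dual.T X).obj m).map T₀.mor₂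
    refine ((Category.assoc _ _ _).symm.trans ((congrArg (· ≫ _) (e.inv.naturality S₀.g)).trans
      (Category.assoc _ _ _))).trans (Eq.trans ?_ (Category.assoc _ _ _).symm)
    exact congrArg (_ ≫ ·) (((Functor.map_comp _ _ _).symm.trans
      (congrArg ((Dual.T X).obj m).map h3)).trans (Functor.map_comp _ _ _))

end Groth.Agent.H16Derived.ProjFormula
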