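import Groth.Agent.H16Derived.ProjFormula.DMap
import Groth.Agent.H16Derived.ProjFormula.PTri
import Groth.Agent.H16Derived.Thomason.Cells
import Groth.Agent.H16Derived.Thomason.Supp
import Groth.Agent.H16Derived.Dual.PseudoQCoh

/-!
# The projection formula for quasi-coherent cohomology
-/

set_option autoImplicit false
set_option linter.style.haveILetI false

universe u

open CategoryTheory CategoryTheory.Limits CategoryTheory.Pretriangulated AlgebraicGeometry
open DerivedCategory.TStructure (t)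

attribute [local instance] HasDerivedCategory.standard

namespace Groth.Agent.H16Derived.ProjFormula

open Groth.Agent.H16Derived.KFlat Groth.Agent.H16Derived.KFlat.Stalk
open Groth.Agent.H16Derived.QCohD (freeShTopIso isQCohD_iso)
open Groth.Agent.H10Coh (freeSh freeShEquiv)

attribute [local instance] Thomason.hasCoproducts_D Thomason.small_hom

variable {X Y : Scheme.{u}}

/-- `Lf^*` restricted over an open. -/
theorem nonempty_rd_lpull (f : X ⟶ Y) [DCoh.HasLpull f] (V : Y.Opens) [DCoh.HasLpull (f ∣_ V)] (K : DCoh.D Y) :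
    Nonempty ((rd (f ⁻¹ᵁ V).ι).obj ((DCoh.Lpull f).obj K) ≅
      (DCoh.Lpull (f ∣_ V)).obj ((rd V.ι).obj K)) := by
  obtain ⟨P, hP, ⟨e⟩⟩ := exists_kflat_rep K
  exact ⟨(rd _).mapIso ((DCoh.Lpull f).mapIso e.symm ≪≫ lpullObjIso f P hP) ≪≫ (rdQ (f ⁻¹ᵁ V).ι).app _ ≪≫
    DerivedCategory.Q.mapIso (pullbackRestrictCxIso f V P) ≪≫
    (lpullObjIso (f ∣_ V) _ (kflat_restrict V hP)).symm ≪≫
    (DCoh.Lpull (f ∣_ V)).mapIso (((rdQ V.ι).app P).symm ≪≫ (rd V.ι).mapIso e)⟩

/-- Quasi-coherence of a derived tensor product over an open. -/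
theorem isQCohD_rd_TObj (U : X.Opens) (m k : DCoh.D X) (hm : DCoh.IsQCohD ((rd U.ι).obj m))
    (hk : DCoh.IsQCohD ((rd U.ι).obj k)) : DCoh.IsQCohD ((rd U.ι).obj (((Dual.T X).obj m).obj k)) := by
  obtain ⟨M, -, hM, ⟨eM⟩⟩ := Dual.exists_rep m
  obtain ⟨P, hP, -, ⟨eP⟩⟩ := Dual.exists_rep k
  let r := NatIso.mapHomologicalComplex (Scheme.Modules.restrictFunctorIsoPullback U.ι) (ComplexShape.up ℤ)
  let M' := (pullCx U.ι).obj M
  let P' := (pullCx U.ι).obj P
  have hP' : IsKFlat (DCoh.tensorBi (X := (U : Scheme.{u}))) P' := isKFlat_pullback U.ι hP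
  haveI := hasLTensorCx P'
  let e : (rd U.ι).obj (((Dual.T X).obj m).obj k) ≅ (DCoh.LTensorCx P').obj (DerivedCategory.Q.obj M') :=
    (rd U.ι).mapIso (((Dual.T X).mapIso eM.symm).app k ≪≫ ((Dual.T X).obj _).mapIso eP.symm ≪≫
      (Dual.TObjIso M hM).app P) ≪≫ (rdQ U.ι).app _ ≪≫
    DerivedCategory.Q.mapIso (r.app _ ≪≫ pullTotIso U.ι M P) ≪≫
    (ltensorCxObjIso P' ((isKFlat_iff' P').2 hP') M').symm
  exact isQCohD_iso e.symm (QCohD.isQCohD_ltensorCx P'
    (isQCohD_iso (((rd U.ι).mapIso eP.symm ≪≫ (rdQ U.ι).app P ≪≫ DerivedCategory.Q.mapIso (r.app P))) hk)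
    (isQCohD_iso (((rd U.ι).mapIso eM.symm ≪≫ (rdQ U.ι).app M ≪≫ DerivedCategory.Q.mapIso (r.app M))) hm))

theorem isQCohD_single_structure (Z : Scheme.{u}) (m : ℤ) :
    DCoh.IsQCohD ((DerivedCategory.singleFunctor Z.Modules m).obj (Coh.structureModule Z)) := fun i => by
  rcases eq_or_ne i m with rfl | hi
  · exact QCohD.isQCoh_iso (hdSingle _ i).symm H10Coh.isQuasicoherent_unit
  · refine QCohD.isQCoh_isZero _ ?_
    rcases lt_or_gt_of_ne hi with h | h
    · exact DerivedCategory.isZero_of_isGE _ m i h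
    · exact DerivedCategory.isZero_of_isLE _ m i h

variable (f : X ⟶ Y) [QuasiCompact f] [QuasiSeparated f] [DCoh.HasLpull f] [DCoh.HasRpush f]
  (I : CochainComplex X.Modules ℤ)

/-- `θ` at extensions by zero, restricted. -/
noncomputable def τ (V : Y.Opens) :
    CxOX.extZeroD V.ι ⋙ FF f I ⋙ rd V.ι ⟶ CxOX.extZeroD V.ι ⋙ GG f I ⋙ rd V.ι :=
  Functor.whiskerLeft (CxOX.extZeroD V.ι) (Functor.whiskerRight (θ f I) (rd V.ι))

theorem ptri_extZeroD (V : Y.Opens) : PTri (CxOX.extZeroD V.ι) := by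
  haveI := preservesFiniteLimits_extZero V
  exact ptri_of_isTriangulated _

theorem ptri_GG : PTri (GG f I) := by
  letI := lpullCommShift f
  haveI := lpull_isTriangulated f
  letI := rpushCommShift f
  haveI := rpush_isTriangulated f
  exact (ptri_of_isTriangulated _).comp ((ptri_TObj _).comp (ptri_of_isTriangulated _))

omit [QuasiCompact f] [QuasiSeparated f] in
theorem isIso_τ_iso {V : Y.Opens} {h h' : DCoh.D (V : Scheme.{u})} (e : h ≅ h')
    (hh : IsIso ((τ f I V).app h)) : IsIso ((τ f I V).app h') := by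
  rw [show (τ f I V).app h' = (CxOX.extZeroD V.ι ⋙ FF f I ⋙ rd V.ι).map e.inv ≫ (τ f I V).app h ≫
    (CxOX.extZeroD V.ι ⋙ GG f I ⋙ rd V.ι).map e.hom from by
      rw [← (τ f I V).naturality e.hom, ← Functor.map_comp_assoc, e.inv_hom_id, CategoryTheory.Functor.map_id,
        Category.id_comp]]
  infer_instance

/-- The objects over `V` at which the projection formula holds. -/
def Cl (V : Y.Opens) (h : DCoh.D (V : Scheme.{u})) : Prop :=
  DCoh.IsQCohD h ∧ ∀ n : ℤ, IsIso ((τ f I V).app (h⟦n⟧))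

variable (hI : DCoh.IsQCohD (DerivedCategory.Q.obj I))
include hI

theorem isIso_comparison_G (V : Y.Opens) {κ : Type u} (h : κ → DCoh.D (V : Scheme.{u}))
    (hh : ∀ k, DCoh.IsQCohD (h k)) :
    PreservesColimit (Discrete.functor h) (CxOX.extZeroD V.ι ⋙ GG f I ⋙ rd V.ι) := by
  haveI := QCohD.hasRpush (f ∣_ V)
  haveI := hasLpull (f ∣_ V)
  haveI := QCohD.MV.isIso_extZero_unit V
  obtain ⟨e⟩ := nonempty_restrictD_rpush_iso f V
  haveI : (CxOX.extZeroD V.ι).IsLeftAdjoint := (Dual.cutAdj V).isLeftAdjoint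
  haveI := QCohD.hasRpush (f ⁻¹ᵁ V).ι
  haveI : (rd (f ⁻¹ᵁ V).ι).IsLeftAdjoint := (Thomason.restrictRpushAdj (f ⁻¹ᵁ V).ι).isLeftAdjoint
  haveI := preservesCoproducts_lpull f κ
  let B₁ := CxOX.extZeroD V.ι ⋙ DCoh.Lpull f ⋙ (Dual.T X).obj (DerivedCategory.Q.obj I) ⋙ rd (f ⁻¹ᵁ V).ι
  have hq : ∀ k, DCoh.IsQCohD (B₁.obj (h k)) := fun k => by
    haveI := Thomason.isIso_extZeroRdAdj_unit V
    haveI : IsIso ((Thomason.extZeroRdAdj V).unit.app (h k)) := NatIso.isIso_app_of_isIso _ _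
    obtain ⟨e'⟩ := nonempty_rd_lpull f V ((CxOX.extZeroD V.ι).obj (h k))
    exact isQCohD_rd_TObj _ _ _ (QCohD.isQCohD_rd _ hI)
      (isQCohD_iso e'.symm (QCohD.isQCohD_lpull _
        (isQCohD_iso (asIso ((Thomason.extZeroRdAdj V).unit.app (h k))) (hh k))))
  haveI : IsIso (sigmaComparison (DCoh.Rpush (f ∣_ V)) fun k => B₁.obj (h k)) :=
    QCohD.isIso_rpush_sigma (f ∣_ V) _ hq
  haveI : PreservesColimit (Discrete.functor fun k => B₁.obj (h k)) (DCoh.Rpush (f ∣_ V)) :=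
    PreservesCoproduct.of_iso_comparison _ _
  haveI : PreservesColimit (Discrete.functor (B₁.obj ∘ h)) (DCoh.Rpush (f ∣_ V)) :=
    ‹PreservesColimit (Discrete.functor fun k => B₁.obj (h k)) (DCoh.Rpush (f ∣_ V))›
  haveI : PreservesColimit (Discrete.functor h ⋙ B₁) (DCoh.Rpush (f ∣_ V)) :=
    preservesColimit_of_iso_diagram _ (Discrete.compNatIsoDiscrete h B₁).symm
  haveI : PreservesColimit (Discrete.functor h)
      ((CxOX.extZeroD V.ι ⋙ DCoh.Lpull f ⋙ (Dual.T X).obj (DerivedCategory.Q.obj I)) ⋙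
        DCoh.restrictD (f ⁻¹ᵁ V).ι ⋙ DCoh.Rpush (f ∣_ V)) :=
    (inferInstance : PreservesColimit (Discrete.functor h) (B₁ ⋙ DCoh.Rpush (f ∣_ V)))
  exact preservesColimit_of_natIso _ (Functor.isoWhiskerLeft (CxOX.extZeroD V.ι ⋙ DCoh.Lpull f ⋙
    (Dual.T X).obj (DerivedCategory.Q.obj I)) e).symm

theorem loc_cl (V : Y.Opens) : Thomason.Loc.{u} (Cl f I V) where
  of_iso e h := ⟨isQCohD_iso e h.1, fun n => isIso_τ_iso f I ((shiftFunctor _ n).mapIso e) (h.2 n)⟩
  sum κ Z hZ := ⟨S1040.result _ Z fun k => (hZ k).1, fun n => by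
    refine isIso_τ_iso f I (PreservesCoproduct.iso (shiftFunctor (DCoh.D (V : Scheme.{u})) n) Z).symm ?_
    let Z' := fun k => (Z k)⟦n⟧
    haveI := fun k => (hZ k).2 n
    haveI := QCohD.MV.isIso_extZero_unit V
    haveI : (CxOX.extZeroD V.ι).IsLeftAdjoint := (Dual.cutAdj V).isLeftAdjoint
    haveI := QCohD.hasRpush V.ι
    haveI : (rd V.ι).IsLeftAdjoint := (Thomason.restrictRpushAdj V.ι).isLeftAdjoint
    let A := CxOX.extZeroD V.ι ⋙ FF f I ⋙ rd V.ι
    let B := CxOX.extZeroD V.ι ⋙ GG f I ⋙ rd V.ι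
    haveI := isIso_comparison_G f I hI V Z' fun k => QCohD.HomVanish.isQCohD_shift (hZ k).1 n
    have hn : sigmaComparison A Z' ≫ (τ f I V).app (∐ Z') =
        Limits.Sigma.map (fun k => (τ f I V).app (Z' k)) ≫ sigmaComparison B Z' :=
      Sigma.hom_ext _ _ fun k => by
        rw [ι_comp_sigmaComparison_assoc, Sigma.ι_map_assoc, ι_comp_sigmaComparison]
        exact (τ f I V).naturality _
    haveI : IsIso (sigmaComparison A Z' ≫ (τ f I V).app (∐ Z')) := by rw [hn]; infer_instance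
    exact IsIso.of_isIso_comp_left (sigmaComparison A Z') _⟩
  cone T hT h₁ h₂ := ⟨QCohD.AffineUnit.isQCohD_obj₃ hT h₁.1 h₂.1, fun n => by
    have hT' := Triangle.shift_distinguished _ hT n
    haveI := h₁.2 n
    haveI := h₂.2 n
    haveI := isIso_τ_iso f I ((shiftFunctorAdd (DCoh.D (V : Scheme.{u})) n 1).app T.obj₁) (h₁.2 (n + 1))
    haveI := isIso_τ_iso f I ((shiftFunctorAdd (DCoh.D (V : Scheme.{u})) n 1).app T.obj₂) (h₂.2 (n + 1))
    have hA : PTri (CxOX.extZeroD V.ι ⋙ FF f I ⋙ rd V.ι) :=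
      (ptri_extZeroD V).comp ((ptri_TObj _).comp (ptri_of_isTriangulated _))
    have hB : PTri (CxOX.extZeroD V.ι ⋙ GG f I ⋙ rd V.ι) :=
      (ptri_extZeroD V).comp ((ptri_GG f I).comp (ptri_of_isTriangulated _))
    exact @isIso_app₃ _ _ _ _ _ _ _ _ _ _ _ _ _ _ _ _ hA hB (τ f I V) _ hT' (h₁.2 n) (h₂.2 n) ‹_› ‹_›⟩

variable [I.IsKInjective]

omit [QuasiCompact f] [QuasiSeparated f] hI in
/-- The generators. -/
theorem isIso_τ_free (N : CochainComplex X.Modules ℤ ⥤ CochainComplex X.Modules ℤ) (j : 𝟭 _ ⟶ N)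
    (hN : ∀ M, QuasiIso (j.app M) ∧ (N.obj M).IsKInjective) (V : Y.Opens) (m : ℤ) :
    IsIso ((τ f I V).app ((DerivedCategory.singleFunctor (V : Scheme.{u}).Modules m).obj
      (Coh.structureModule (V : Scheme.{u})))) := by
  haveI := preservesFiniteLimits_extZero V
  haveI := preservesColimitsOfSize_shrink.{0, u, 0, u} (CxOX.extZero V.ι)
  let E : CochainComplex (V : Scheme.{u}).Modules ℤ :=
    (HomologicalComplex.single _ (ComplexShape.up ℤ) m).obj (Coh.structureModule (V : Scheme.{u}))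
  let S := ((CxOX.extZero V.ι).mapHomologicalComplex (ComplexShape.up ℤ)).obj E
  have hS : FreeOn V S := by
    refine ⟨⟨m, m, fun q hq => (CxOX.extZero V.ι).map_isZero
      (HomologicalComplex.isZero_single_obj_X _ _ _ _ (by omega))⟩, fun q => ?_⟩
    rcases eq_or_ne q m with rfl | hq
    · exact ⟨1, ⟨(CxOX.extZero V.ι).mapIso (HomologicalComplex.singleObjXSelf _ _ _ ≪≫
        (coproductUniqueIso (fun _ : Fin 1 => Coh.structureModule (V : Scheme.{u}))).symm) ≪≫ PreservesCoproduct.iso (CxOX.extZero V.ι) _⟩⟩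
    · exact ⟨0, ⟨((CxOX.extZero V.ι).map_isZero (HomologicalComplex.isZero_single_obj_X _ _ _ _ hq)).iso
        ((IsZero.iff_id_eq_zero _).2 (Sigma.hom_ext _ _ fun i => i.elim0))⟩⟩
  let e : DerivedCategory.Q.obj S ≅ (CxOX.extZeroD V.ι).obj
      ((DerivedCategory.singleFunctor (V : Scheme.{u}).Modules m).obj (Coh.structureModule (V : Scheme.{u}))) :=
    ((CxOX.extZero V.ι).mapDerivedCategoryFactors.app E).symm ≪≫
      (CxOX.extZeroD V.ι).mapIso ((DerivedCategory.singleFunctorIsoCompQ _ m).app _).symm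
  haveI : IsIso ((rd V.ι).map ((θ f I).app (DerivedCategory.Q.obj S))) := by
    refine (isoOn_θ_iff f I N j hN V S).2 ?_
    haveI : QuasiIso ((resψ (X := Y)).app S) := quasiIso_resψ S
    exact (qisOn_ΨN_iff (hN := hN) V (isKFlat_res S) (isKFlat_of_freeOn hS) _ (qisOn_of_quasiIso V ((resψ (X := Y)).app S))).2
      (qisOn_ΨN_freeOn (hN := hN) V hS)
  show IsIso ((rd V.ι).map ((θ f I).app _))
  rw [show (θ f I).app ((CxOX.extZeroD V.ι).obj _) = (FF f I).map e.inv ≫ (θ f I).app _ ≫ (GG f I).map e.hom from by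
    rw [← (θ f I).naturality e.hom, ← Functor.map_comp_assoc, e.inv_hom_id, CategoryTheory.Functor.map_id,
      Category.id_comp]]
  rw [Functor.map_comp, Functor.map_comp]
  infer_instance

/-- The projection formula over an affine open. -/
theorem isIso_rd_θ (N : CochainComplex X.Modules ℤ ⥤ CochainComplex X.Modules ℤ) (j : 𝟭 _ ⟶ N)
    (hN : ∀ M, QuasiIso (j.app M) ∧ (N.obj M).IsKInjective) (V : Y.Opens) (hV : IsAffineOpen V)
    (K : DCoh.D Y) (hK : DCoh.IsQCohD K) : IsIso ((rd V.ι).map ((θ f I).app K)) := by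
  haveI : IsAffine (V : Scheme.{u}) := hV
  let σ : ULift.{u} ℤ → DCoh.D (V : Scheme.{u}) := fun m =>
    (DerivedCategory.singleFunctor _ m.down).obj (freeSh (⊤ : (V : Scheme.{u}).Opens))
  have hσ : ∀ m, Cl f I V (σ m) := fun m => by
    refine ⟨isQCohD_iso ((DerivedCategory.singleFunctor _ m.down).mapIso freeShTopIso).symm ?_, fun n => ?_⟩
    · exact isQCohD_single_structure (V : Scheme.{u}) m.down
    · exact isIso_τ_iso f I ((DerivedCategory.singleFunctor _ (m.down - n)).mapIso freeShTopIso.symm ≪≫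
        ((((DerivedCategory.singleFunctors (V : Scheme.{u}).Modules).shiftIso n (m.down - n) m.down (by omega)).app _)).symm)
        (isIso_τ_free f I N j hN V _)
  have hcl : Cl f I V ((rd V.ι).obj K) := Thomason.induction σ (fun L => DCoh.IsQCohD L)
    { of_iso := fun e h => isQCohD_iso e h
      sum := fun κ Z h => S1040.result _ Z h
      cone := fun T hT h₁ h₂ => QCohD.AffineUnit.isQCohD_obj₃ hT h₁ h₂ }
    (fun m => (hσ m).1) (fun m => QCohD.holds_affine (isAffineOpen_top _) m.down)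
    (fun m k => ⟨⟨m.down - k⟩,
      ⟨((((DerivedCategory.singleFunctors (V : Scheme.{u}).Modules).shiftIso k (m.down - k) m.down (by omega)).app _)).symm⟩⟩)
    (fun Z hZ h0 => MVPush.isZero_of_hd Z fun i => by
      haveI : Subsingleton Γ(DCoh.HD Z i, (⊤ : (V : Scheme.{u}).Opens)) := ⟨fun a b => by
        obtain ⟨g, hg⟩ := (QCohD.bijective_θ_affine hZ (isAffineOpen_top _) i).2 ((freeShEquiv ⊤ _).symm a)
        obtain ⟨g', hg'⟩ := (QCohD.bijective_θ_affine hZ (isAffineOpen_top _) i).2 ((freeShEquiv ⊤ _).symm b)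
        rw [h0 ⟨i⟩ g] at hg
        rw [h0 ⟨i⟩ g'] at hg'
        exact (freeShEquiv ⊤ _).symm.injective (hg.symm.trans hg')⟩
      exact H17.FPExt.isZero_of_stalk _ fun x =>
        QCohD.AffineUnit.subsingleton_stalk_of_sections (hZ i) (isAffineOpen_top _) (TopologicalSpace.Opens.mem_top x))
    (loc_cl f I hI V) hσ (QCohD.isQCohD_rd _ hK)
  haveI := isIso_τ_iso f I ((shiftFunctorZero (DCoh.D (V : Scheme.{u})) ℤ).app ((rd V.ι).obj K)) (hcl.2 0)
  haveI := QCohD.MV.isIso_extZero_unit V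
  haveI := Thomason.isIso_extZeroRdAdj_unit V
  let c := (Thomason.extZeroRdAdj V).counit.app K
  haveI hc : IsIso ((rd V.ι).map c) := by
    haveI : IsIso ((Thomason.extZeroRdAdj V).unit.app ((rd V.ι).obj K)) := NatIso.isIso_app_of_isIso _ _
    haveI : IsIso ((Thomason.extZeroRdAdj V).unit.app ((rd V.ι).obj K) ≫ (rd V.ι).map c) := by
      rw [Adjunction.right_triangle_components]; exact IsIso.id _
    exact IsIso.of_isIso_comp_left ((Thomason.extZeroRdAdj V).unit.app ((rd V.ι).obj K)) _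
  haveI h1 : IsIso ((rd V.ι).map ((FF f I).map c)) := Dual.isoOn_TObj _ (show Dual.IsoOn V c from hc)
  haveI h2 : IsIso ((rd V.ι).map ((GG f I).map c)) := by
    haveI := QCohD.hasRpush (f ∣_ V)
    haveI := hasLpull (f ∣_ V)
    obtain ⟨e⟩ := nonempty_restrictD_rpush_iso f V
    have hU : Dual.IsoOn (f ⁻¹ᵁ V) ((DCoh.Lpull f).map c) := by
      obtain ⟨Z, g, δ, hT⟩ := distinguished_cocone_triangle c
      letI := lpullCommShift f
      haveI := lpull_isTriangulated f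
      refine (Triangle.isZero₃_iff_isIso₁ _ ((rd (f ⁻¹ᵁ V).ι).map_distinguished _
        ((DCoh.Lpull f).map_distinguished _ hT))).1 ?_
      obtain ⟨e'⟩ := nonempty_rd_lpull f V Z
      haveI := (lpullRpushAdj (f ∣_ V)).isLeftAdjoint
      exact ((DCoh.Lpull (f ∣_ V)).map_isZero ((Triangle.isZero₃_iff_isIso₁ _ ((rd V.ι).map_distinguished _ hT)).2 hc)).of_iso e'
    haveI : IsIso ((rd (f ⁻¹ᵁ V).ι).map (((Dual.T X).obj (DerivedCategory.Q.obj I)).map ((DCoh.Lpull f).map c))) :=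
      Dual.isoOn_TObj _ hU
    exact (NatIso.isIso_map_iff e _).2 (Functor.map_isIso (DCoh.Rpush (f ∣_ V)) _)
  have hn : (rd V.ι).map ((θ f I).app ((CxOX.extZeroD V.ι).obj ((rd V.ι).obj K))) ≫ (rd V.ι).map ((GG f I).map c) =
      (rd V.ι).map ((FF f I).map c) ≫ (rd V.ι).map ((θ f I).app K) := by
    rw [← Functor.map_comp, ← Functor.map_comp]
    exact congrArg (rd V.ι).map ((θ f I).naturality c).symm
  haveI : IsIso ((rd V.ι).map ((θ f I).app ((CxOX.extZeroD V.ι).obj ((rd V.ι).obj K)))) :=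
    ‹IsIso ((τ f I V).app ((rd V.ι).obj K))›
  haveI : IsIso ((rd V.ι).map ((FF f I).map c) ≫ (rd V.ι).map ((θ f I).app K)) := by rw [← hn]; infer_instance
  exact IsIso.of_isIso_comp_left ((rd V.ι).map ((FF f I).map c)) _

/-- The projection formula. -/
theorem isIso_θ_of_isQCohD (K : DCoh.D Y) (hK : DCoh.IsQCohD K) : IsIso ((θ f I).app K) := by
  haveI := isGrothendieckAbelian_modules (X := X)
  obtain ⟨N, j, hN⟩ := KInjRes.exists_resolution_functor (A := X.Modules)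
  obtain ⟨Z, g, δ, hT⟩ := distinguished_cocone_triangle ((θ f I).app K)
  refine (Triangle.isZero₃_iff_isIso₁ _ hT).1 (MVPush.isZero_of_hd Z fun i => isZero_of_isZero_restrict fun x => ?_)
  obtain ⟨_, ⟨(V : Y.Opens), hV, rfl⟩, hx, -⟩ := Y.isBasis_affineOpens.exists_subset_of_mem_open (Set.mem_univ x) isOpen_univ
  refine ⟨V, hx, IsZero.of_iso ?_ (homologyRdIso V.ι Z i).symm⟩
  exact Functor.map_isZero _ ((Triangle.isZero₃_iff_isIso₁ _ ((rd V.ι).map_distinguished _ hT)).2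
    (isIso_rd_θ f I hI N j (fun M => ⟨(hN M).2.1, (hN M).2.2.1⟩) V hV K hK))

end Groth.Agent.H16Derived.ProjFormula
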