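import Groth.Agent.H16Derived.ProjFormula.Main
import Groth.Agent.H16Derived.Dual.Bifunctor
import Groth.Agent.H16Derived.KFlat.PushPull

/-!
# The projection formula map on the derived category

`θ f I : f_* I ⊗^L K ⟶ Rf_*(I ⊗^L Lf^* K)`, natural in `K`.
-/

set_option autoImplicit false
set_option linter.style.haveILetI false

universe u

open CategoryTheory CategoryTheory.Limits CategoryTheory.Functor AlgebraicGeometry

attribute [local instance] HasDerivedCategory.standard

namespace Groth.Agent.H16Derived.ProjFormula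

open Groth.Agent.H16Derived.KFlat Groth.Agent.H16Derived.KFlat.Stalk

variable {X Y : Scheme.{u}} (f : X ⟶ Y)

/-- `f_* M ⟶ Rf_* M` on complexes. -/
noncomputable def η₀ [DCoh.HasRpush f] :
    pushCx f ⋙ DerivedCategory.Q ⟶ DerivedCategory.Q ⋙ DCoh.Rpush f :=
  ((isoWhiskerLeft (pushCx f) (DerivedCategory.quotientCompQhIso Y.Modules).symm ≪≫
    (Functor.associator _ _ _).symm ≪≫
    isoWhiskerRight ((push f).mapHomotopyCategoryFactors (ComplexShape.up ℤ)).symm DerivedCategory.Qh ≪≫
    Functor.associator _ _ _).hom ≫ whiskerLeft (HomotopyCategory.quotient _ _) (rpushUnit f) ≫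
    (Functor.associator _ _ _).inv ≫
    whiskerRight (DerivedCategory.quotientCompQhIso X.Modules).hom (DCoh.Rpush f))

theorem isIso_η₀ [DCoh.HasRpush f] (I : CochainComplex X.Modules ℤ) [I.IsKInjective] :
    IsIso ((η₀ f).app I) := by
  haveI := isIso_rpushUnit f I
  simp only [η₀, NatTrans.comp_app, associator_inv_app, whiskerRight_app, whiskerLeft_app]
  infer_instance

/-- `Lf^* K ⟶ f^* K` on complexes. -/
noncomputable def lam₀ [DCoh.HasLpull f] :
    DerivedCategory.Q ⋙ DCoh.Lpull f ⟶ pullCx f ⋙ DerivedCategory.Q :=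
  whiskerRight (DerivedCategory.quotientCompQhIso Y.Modules).inv (DCoh.Lpull f) ≫
    (Functor.associator _ _ _).hom ≫
    whiskerLeft (HomotopyCategory.quotient _ _) (lpullCounit f) ≫
    (((Functor.associator _ _ _).symm ≪≫
      isoWhiskerRight ((pull f).mapHomotopyCategoryFactors (ComplexShape.up ℤ)) DerivedCategory.Qh ≪≫
      Functor.associator _ _ _ ≪≫
      isoWhiskerLeft (pullCx f) (DerivedCategory.quotientCompQhIso X.Modules))).hom

theorem isIso_lam₀ [DCoh.HasLpull f] (K : CochainComplex Y.Modules ℤ)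
    (hK : IsKFlat (DCoh.tensorBi (X := Y)) K) : IsIso ((lam₀ f).app K) := by
  haveI := isIso_Lpull_counit f K hK
  simp only [lam₀, NatTrans.comp_app, associator_hom_app, whiskerRight_app, whiskerLeft_app]
  infer_instance

variable (I : CochainComplex X.Modules ℤ)

/-- `f_* I ⊗^L -`. -/
noncomputable abbrev FF : DCoh.D Y ⥤ DCoh.D Y :=
  (Dual.T Y).obj (DerivedCategory.Q.obj ((pushCx f).obj I))

/-- `Rf_*(I ⊗^L Lf^* -)`. -/
noncomputable abbrev GG [DCoh.HasLpull f] [DCoh.HasRpush f] : DCoh.D Y ⥤ DCoh.D Y :=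
  DCoh.Lpull f ⋙ (Dual.T X).obj (DerivedCategory.Q.obj I) ⋙ DCoh.Rpush f

variable [DCoh.HasLpull f] [DCoh.HasRpush f]

theorem isIso_Qresψ (C : CochainComplex Y.Modules ℤ) :
    IsIso (DerivedCategory.Q.map ((resψ (X := Y)).app C)) :=
  isIso_Q_map _ (quasiIso_resψ C)

theorem isIso_εSnd_pull (P : CochainComplex Y.Modules ℤ) (hP : IsKFlat (DCoh.tensorBi (X := Y)) P) :
    IsIso ((Dual.εSnd I).app ((pullCx f).obj P)) :=
  Dual.isIso_ε I _ (Or.inr (isKFlat_pullback f hP))

/-- The projection formula map on complexes, in resolved form. -/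
noncomputable def θr (P : CochainComplex Y.Modules ℤ) :
    (FF f I).obj (DerivedCategory.Q.obj P) ⟶
      (DCoh.Rpush f).obj (DerivedCategory.Q.obj
        ((tot (DCoh.tensorBi (X := X)) I).obj ((pullCx f).obj P))) :=
  (Dual.εSnd ((pushCx f).obj I)).app P ≫ DerivedCategory.Q.map (Ψ f I P) ≫
    (η₀ f).app ((tot (DCoh.tensorBi (X := X)) I).obj ((pullCx f).obj P))

/-- The target in resolved form. -/
noncomputable def θt (P : CochainComplex Y.Modules ℤ) :
    (GG f I).obj (DerivedCategory.Q.obj P) ⟶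
      (DCoh.Rpush f).obj (DerivedCategory.Q.obj
        ((tot (DCoh.tensorBi (X := X)) I).obj ((pullCx f).obj P))) :=
  (DCoh.Rpush f).map (((Dual.T X).obj (DerivedCategory.Q.obj I)).map ((lam₀ f).app P) ≫
    (Dual.εSnd I).app ((pullCx f).obj P))

theorem isIso_θt (P : CochainComplex Y.Modules ℤ) (hP : IsKFlat (DCoh.tensorBi (X := Y)) P) :
    IsIso (θt f I P) := by
  haveI := isIso_lam₀ f P hP
  haveI := isIso_εSnd_pull f I P hP
  unfold θt
  infer_instance

theorem θr_naturality {P P' : CochainComplex Y.Modules ℤ} (φ : P ⟶ P') :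
    (FF f I).map (DerivedCategory.Q.map φ) ≫ θr f I P' =
      θr f I P ≫ (DCoh.Rpush f).map (DerivedCategory.Q.map
        ((tot (DCoh.tensorBi (X := X)) I).map ((pullCx f).map φ))) := by
  have h1 : (FF f I).map (DerivedCategory.Q.map φ) ≫ (Dual.εSnd ((pushCx f).obj I)).app P' =
      (Dual.εSnd ((pushCx f).obj I)).app P ≫
        DerivedCategory.Q.map ((tot (DCoh.tensorBi (X := Y)) ((pushCx f).obj I)).map φ) :=
    (Dual.εSnd ((pushCx f).obj I)).naturality φ
  have h2 : DerivedCategory.Q.map ((tot (DCoh.tensorBi (X := Y)) ((pushCx f).obj I)).map φ) ≫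
      DerivedCategory.Q.map (Ψ f I P') = DerivedCategory.Q.map (Ψ f I P) ≫ DerivedCategory.Q.map
        ((pushCx f).map ((tot (DCoh.tensorBi (X := X)) I).map ((pullCx f).map φ))) :=
    (DerivedCategory.Q.map_comp _ _).symm.trans
      ((congrArg DerivedCategory.Q.map (Ψ_naturality f I φ)).trans (DerivedCategory.Q.map_comp _ _))
  have h3 := (η₀ f).naturality ((tot (DCoh.tensorBi (X := X)) I).map ((pullCx f).map φ))
  unfold θr
  refine ((Category.assoc _ _ _).symm.trans ((congrArg (· ≫ _) h1).trans (Category.assoc _ _ _))).trans ?_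
  refine ((congrArg (_ ≫ ·) ((Category.assoc _ _ _).symm.trans ((congrArg (· ≫ _) h2).trans
    ((Category.assoc _ _ _).trans (congrArg (_ ≫ ·) h3)))))).trans ?_
  exact ((congrArg (_ ≫ ·) (Category.assoc _ _ _).symm).trans (Category.assoc _ _ _).symm)

theorem θt_naturality {P P' : CochainComplex Y.Modules ℤ} (φ : P ⟶ P') :
    (GG f I).map (DerivedCategory.Q.map φ) ≫ θt f I P' =
      θt f I P ≫ (DCoh.Rpush f).map (DerivedCategory.Q.map
        ((tot (DCoh.tensorBi (X := X)) I).map ((pullCx f).map φ))) := by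
  unfold θt
  refine ((DCoh.Rpush f).map_comp _ _).symm.trans (Eq.trans (congrArg (DCoh.Rpush f).map ?_)
    ((DCoh.Rpush f).map_comp _ _))
  have h1 := (lam₀ f).naturality φ
  have h2 := (Dual.εSnd I).naturality ((pullCx f).map φ)
  refine ((Category.assoc _ _ _).symm.trans ((congrArg (· ≫ _) ((Functor.map_comp _ _ _).symm.trans
    ((congrArg ((Dual.T X).obj (DerivedCategory.Q.obj I)).map h1).trans (Functor.map_comp _ _ _)))).trans
      (Category.assoc _ _ _))).trans ?_
  exact (congrArg (_ ≫ ·) h2).trans (Category.assoc _ _ _).symm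

/-- The projection formula map on complexes. -/
noncomputable def θ₀ : DerivedCategory.Q ⋙ FF f I ⟶ DerivedCategory.Q ⋙ GG f I where
  app C :=
    haveI := isIso_Qresψ C
    haveI := isIso_θt f I ((KFlat.Stalk.res (X := Y)).obj C) (isKFlat_res C)
    (FF f I).map (inv (DerivedCategory.Q.map ((resψ (X := Y)).app C))) ≫
      θr f I ((KFlat.Stalk.res (X := Y)).obj C) ≫ inv (θt f I ((KFlat.Stalk.res (X := Y)).obj C)) ≫
      (GG f I).map (DerivedCategory.Q.map ((resψ (X := Y)).app C))
  naturality C C' φ := by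
    haveI := isIso_Qresψ C
    haveI := isIso_Qresψ C'
    haveI := isIso_θt f I ((KFlat.Stalk.res (X := Y)).obj C) (isKFlat_res C)
    haveI := isIso_θt f I ((KFlat.Stalk.res (X := Y)).obj C') (isKFlat_res C')
    let φ' := (KFlat.Stalk.res (X := Y)).map φ
    have hn : DerivedCategory.Q.map φ' ≫ DerivedCategory.Q.map ((resψ (X := Y)).app C') =
        DerivedCategory.Q.map ((resψ (X := Y)).app C) ≫ DerivedCategory.Q.map φ :=
      (DerivedCategory.Q.map_comp _ _).symm.trans
        ((congrArg DerivedCategory.Q.map ((resψ (X := Y)).naturality φ)).trans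
          (DerivedCategory.Q.map_comp _ _))
    have hn' : DerivedCategory.Q.map φ ≫ inv (DerivedCategory.Q.map ((resψ (X := Y)).app C')) =
        inv (DerivedCategory.Q.map ((resψ (X := Y)).app C)) ≫ DerivedCategory.Q.map φ' := by
      rw [IsIso.eq_inv_comp, ← Category.assoc, IsIso.comp_inv_eq]
      exact hn.symm
    have h1 : (FF f I).map (DerivedCategory.Q.map φ) ≫
        (FF f I).map (inv (DerivedCategory.Q.map ((resψ (X := Y)).app C'))) =
        (FF f I).map (inv (DerivedCategory.Q.map ((resψ (X := Y)).app C))) ≫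
          (FF f I).map (DerivedCategory.Q.map φ') := by
      rw [← Functor.map_comp, hn', Functor.map_comp]
    have h2 : (FF f I).map (DerivedCategory.Q.map φ') ≫ θr f I _ ≫ inv (θt f I _) =
        θr f I _ ≫ inv (θt f I _) ≫ (GG f I).map (DerivedCategory.Q.map φ') := by
      rw [← Category.assoc, θr_naturality, Category.assoc]
      refine congrArg (_ ≫ ·) ?_
      rw [IsIso.eq_inv_comp, ← Category.assoc, IsIso.comp_inv_eq]
      exact (θt_naturality f I φ').symm
    have h3 : (GG f I).map (DerivedCategory.Q.map φ') ≫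
        (GG f I).map (DerivedCategory.Q.map ((resψ (X := Y)).app C')) =
        (GG f I).map (DerivedCategory.Q.map ((resψ (X := Y)).app C)) ≫
          (GG f I).map (DerivedCategory.Q.map φ) := by
      rw [← Functor.map_comp, hn, Functor.map_comp]
    show (FF f I).map (DerivedCategory.Q.map φ) ≫ _ = (_ ≫ _) ≫ (GG f I).map (DerivedCategory.Q.map φ)
    rw [← Category.assoc, h1]
    simp only [Category.assoc]
    rw [← h3, reassoc_of% h2]
    rfl

/-- The projection formula map. -/
noncomputable def θ : FF f I ⟶ GG f I :=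
  Localization.liftNatTrans DerivedCategory.Q (HomologicalComplex.quasiIso Y.Modules (ComplexShape.up ℤ))
    (DerivedCategory.Q ⋙ FF f I) (DerivedCategory.Q ⋙ GG f I) (FF f I) (GG f I) (θ₀ f I)

theorem θ_app (C : CochainComplex Y.Modules ℤ) :
    (θ f I).app (DerivedCategory.Q.obj C) = (θ₀ f I).app C := by
  simp [θ, Localization.Lifting.iso]

/-- Over an open, `θ` is an isomorphism iff the derived projection formula map is a quasi-isomorphism. -/
theorem isoOn_θ_iff (N : CochainComplex X.Modules ℤ ⥤ CochainComplex X.Modules ℤ) (j : 𝟭 _ ⟶ N)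
    (hN : ∀ M, QuasiIso (j.app M) ∧ (N.obj M).IsKInjective) (V : Y.Opens)
    (C : CochainComplex Y.Modules ℤ) :
    IsIso ((rd V.ι).map ((θ f I).app (DerivedCategory.Q.obj C))) ↔
      QisOn V (ΨN f N j I ((KFlat.Stalk.res (X := Y)).obj C)) := by
  let P := (KFlat.Stalk.res (X := Y)).obj C
  let M := (tot (DCoh.tensorBi (X := X)) I).obj ((pullCx f).obj P)
  haveI := isIso_Qresψ C
  haveI := isIso_θt f I P (isKFlat_res C)
  haveI : IsIso ((Dual.εSnd ((pushCx f).obj I)).app P) := Dual.isIso_ε _ _ (Or.inr (isKFlat_res C))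
  haveI := (hN M).2
  haveI := (hN M).1
  haveI := isIso_η₀ f (N.obj M)
  haveI : IsIso (DerivedCategory.Q.map (j.app M)) := isIso_Q_map _ (hN M).1
  have hη : (η₀ f).app M = DerivedCategory.Q.map ((pushCx f).map (j.app M)) ≫ (η₀ f).app (N.obj M) ≫
      inv ((DCoh.Rpush f).map (DerivedCategory.Q.map (j.app M))) := by
    rw [← Category.assoc, IsIso.eq_comp_inv]
    exact ((η₀ f).naturality (j.app M)).symm
  have hr : θr f I P = (Dual.εSnd ((pushCx f).obj I)).app P ≫ DerivedCategory.Q.map (ΨN f N j I P) ≫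
      (η₀ f).app (N.obj M) ≫ inv ((DCoh.Rpush f).map (DerivedCategory.Q.map (j.app M))) := by
    rw [θr, ΨN, hη]
    exact congrArg (_ ≫ ·) ((Category.assoc _ _ _).symm.trans
      (congrArg (· ≫ _) (DerivedCategory.Q.map_comp _ _).symm))
  rw [θ_app]
  show IsIso ((rd V.ι).map (_ ≫ θr f I P ≫ _ ≫ _)) ↔ _
  rw [hr]
  simp only [Functor.map_comp, isIso_comp_left_iff, isIso_comp_right_iff]
  exact (NatIso.isIso_map_iff (Scheme.Modules.restrictFunctor V.ι).mapDerivedCategoryFactors _).trans
    (DerivedCategory.isIso_Q_map_iff_quasiIso (V : Scheme.{u}).Modules _)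

end Groth.Agent.H16Derived.ProjFormula
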