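import Groth.Agent.H16Derived.KFlat.SheafAssoc
import Groth.Agent.H16Derived.KFlat.FinLocFree
import Groth.Agent.H16Derived.KFlat.FlatCriterion
import Groth.Agent.H16Derived.DerAdj
import Mathlib.CategoryTheory.Adjunction.Mates

/-!
# The projection formula map on complexes

`Ψ f I P : f_* I ⊗ P ⟶ f_* (I ⊗ f^* P)`, natural in `P`.
-/

set_option autoImplicit false
set_option linter.style.haveILetI false

universe u

open CategoryTheory CategoryTheory.Limits AlgebraicGeometry

attribute [local instance] HasDerivedCategory.standard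

namespace Groth.Agent.H16Derived.ProjFormula

open Groth.Agent.H16Derived.KFlat Groth.Agent.H16Derived.KFlat.Stalk

variable {X Y : Scheme.{u}} (f : X ⟶ Y)

/-- `f_*`. -/
noncomputable abbrev push : X.Modules ⥤ Y.Modules := Scheme.Modules.pushforward f

/-- `f^*`. -/
noncomputable abbrev pull : Y.Modules ⥤ X.Modules := Scheme.Modules.pullback f

/-- `f^* ⊣ f_*`. -/
noncomputable abbrev adj : pull f ⊣ push f := Scheme.Modules.pullbackPushforwardAdjunction f

/-- The projection formula map `f_* M ⊗ N ⟶ f_* (M ⊗ f^* N)`. -/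
noncomputable def ψ (M : X.Modules) (N : Y.Modules) :
    ((DCoh.tensorBi (X := Y)).obj ((push f).obj M)).obj N ⟶
      (push f).obj (((DCoh.tensorBi (X := X)).obj M).obj ((pull f).obj N)) :=
  (adj f).homEquiv _ _ ((pullTensorLIso f N).hom.app ((push f).obj M) ≫
    ((DCoh.tensorBi (X := X)).map ((adj f).counit.app M)).app ((pull f).obj N))

theorem ψ_naturality (M : X.Modules) {N N' : Y.Modules} (φ : N ⟶ N') :
    ((DCoh.tensorBi (X := Y)).obj ((push f).obj M)).map φ ≫ ψ f M N' =
      ψ f M N ≫ (push f).map (((DCoh.tensorBi (X := X)).obj M).map ((pull f).map φ)) := by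
  rw [ψ, ψ, ← Adjunction.homEquiv_naturality_left, ← Adjunction.homEquiv_naturality_right]
  congr 1
  rw [pullTensorLIso_hom_app, pullTensorLIso_hom_app, Category.assoc]
  have h1 := (pullTensorR f ((push f).obj M)).naturality φ
  dsimp at h1
  rw [← Category.assoc, h1, Category.assoc]
  exact congrArg (_ ≫ ·) (((DCoh.tensorBi (X := X)).map ((adj f).counit.app M)).naturality ((pull f).map φ))

theorem ψ_naturality_left {M M' : X.Modules} (g : M ⟶ M') (N : Y.Modules) :
    ((DCoh.tensorBi (X := Y)).map ((push f).map g)).app N ≫ ψ f M' N =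
      ψ f M N ≫ (push f).map (((DCoh.tensorBi (X := X)).map g).app ((pull f).obj N)) := by
  rw [ψ, ψ, ← Adjunction.homEquiv_naturality_left, ← Adjunction.homEquiv_naturality_right]
  congr 1
  have h1 := (pullTensorLIso f N).hom.naturality ((push f).map g)
  dsimp at h1
  rw [← Category.assoc, h1, Category.assoc, Category.assoc, ← NatTrans.comp_app, ← Functor.map_comp,
    ← NatTrans.comp_app, ← Functor.map_comp]
  exact congrArg (_ ≫ ·) (congrArg (fun t => ((DCoh.tensorBi (X := X)).map t).app _)
    ((adj f).counit.naturality g))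

/-- `- ⊗ O = id`. -/
noncomputable def ρ (Z : Scheme.{u}) :
    (DCoh.tensorBi (X := Z)).flip.obj (Coh.structureModule Z) ≅ 𝟭 Z.Modules :=
  (tensorRightModIso (Coh.structureModule Z)).symm ≪≫ tensorUnitModIso

/-- `- ⊗ f^*O = id`. -/
noncomputable def ρ' : (DCoh.tensorBi (X := X)).flip.obj ((pull f).obj (Coh.structureModule Y)) ≅ 𝟭 X.Modules :=
  (DCoh.tensorBi (X := X)).flip.mapIso (structurePullbackIso f) ≪≫ ρ X

/-- `f^* = f^*` through the unit tensor isomorphisms. -/
noncomputable def σ : pull f ≅ pull f :=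
  (pull f).leftUnitor.symm ≪≫ Functor.isoWhiskerRight (ρ Y).symm (pull f) ≪≫
    pullTensorLIso f (Coh.structureModule Y) ≪≫ Functor.isoWhiskerLeft (pull f) (ρ' f) ≪≫
    (pull f).rightUnitor

/-- The projection formula for the structure sheaf. -/
theorem isIso_ψ_unit (M : X.Modules) : IsIso (ψ f M (Coh.structureModule Y)) := by
  let τ := conjugateIsoEquiv (adj f) (adj f) (σ f)
  have key : ψ f M (Coh.structureModule Y) ≫ (push f).map ((ρ' f).hom.app M) =
      (ρ Y).hom.app ((push f).obj M) ≫ τ.hom.app M := by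
    have hτ : τ.hom.app M = (adj f).homEquiv _ _ ((σ f).hom.app ((push f).obj M) ≫ (adj f).counit.app M) := by
      show (conjugateEquiv (adj f) (adj f) (σ f).hom).app M = _
      rw [conjugateEquiv_apply_app, Adjunction.homEquiv_unit, Functor.map_comp]
    rw [hτ, ψ]
    refine ((adj f).homEquiv_naturality_right _ _).symm.trans
      (Eq.trans ?_ ((adj f).homEquiv_naturality_left _ _))
    refine congrArg ((adj f).homEquiv _ _) ?_
    have h1 : ((DCoh.tensorBi (X := X)).map ((adj f).counit.app M)).app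
        ((pull f).obj (Coh.structureModule Y)) ≫ (ρ' f).hom.app M =
        (ρ' f).hom.app ((pull f).obj ((push f).obj M)) ≫ (adj f).counit.app M :=
      (ρ' f).hom.naturality ((adj f).counit.app M)
    rw [Category.assoc, h1]
    simp only [σ, Iso.trans_hom, NatTrans.comp_app, Functor.isoWhiskerRight_hom,
      Functor.whiskerRight_app, Functor.isoWhiskerLeft_hom, Functor.whiskerLeft_app, Iso.symm_hom,
      Category.assoc]
    simp [← Functor.map_comp_assoc]
  haveI : IsIso ((ρ Y).hom.app ((push f).obj M) ≫ τ.hom.app M) := inferInstance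
  exact IsIso.of_isIso_fac_right key

/-- `f^*` on complexes. -/
noncomputable abbrev pullCx : CochainComplex Y.Modules ℤ ⥤ CochainComplex X.Modules ℤ :=
  (pull f).mapHomologicalComplex (ComplexShape.up ℤ)

/-- `f_*` on complexes. -/
noncomputable abbrev pushCx : CochainComplex X.Modules ℤ ⥤ CochainComplex Y.Modules ℤ :=
  (push f).mapHomologicalComplex (ComplexShape.up ℤ)

/-- The projection formula map `f_* I ⊗ P ⟶ f_* (I ⊗ f^* P)` on complexes. -/
noncomputable def Ψ (I : CochainComplex X.Modules ℤ) (P : CochainComplex Y.Modules ℤ) :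
    (tot (DCoh.tensorBi (X := Y)) ((pushCx f).obj I)).obj P ⟶
      (pushCx f).obj ((tot (DCoh.tensorBi (X := X)) I).obj ((pullCx f).obj P)) :=
  (mapHomologicalComplexAdj (adj f) (ComplexShape.up ℤ)).homEquiv _ _
    ((pullTotIso f ((pushCx f).obj I) P).hom ≫
      ((DCoh.tensorBi (X := X)).map₂CochainComplex.map
        ((mapHomologicalComplexAdj (adj f) (ComplexShape.up ℤ)).counit.app I)).app _)

/-- The components of `Ψ`. -/
theorem ι_Ψ (I : CochainComplex X.Modules ℤ) (P : CochainComplex Y.Modules ℤ) (p q n : ℤ)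
    (h : p + q = n) :
    HomologicalComplex.ιMapBifunctor ((pushCx f).obj I) P (DCoh.tensorBi (X := Y)) (ComplexShape.up ℤ)
        p q n h ≫ (Ψ f I P).f n =
      ψ f (I.X p) (P.X q) ≫ (push f).map (HomologicalComplex.ιMapBifunctor I ((pullCx f).obj P)
        (DCoh.tensorBi (X := X)) (ComplexShape.up ℤ) p q n h) := by
  haveI : ∀ J : Type, PreservesColimitsOfShape (Discrete J) (pull f) := fun J =>
    have := preservesColimitsOfSize_shrink.{0, u, 0, u} (pull f)
    inferInstance
  show HomologicalComplex.ιMapBifunctor _ P _ _ p q n h ≫ (adj f).unit.app _ ≫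
    (push f).map (((pullTotIso f ((pushCx f).obj I) P).hom).f n ≫
      ((((DCoh.tensorBi (X := X)).map₂CochainComplex.map
        ((mapHomologicalComplexAdj (adj f) (ComplexShape.up ℤ)).counit.app I)).app _).f n)) = _
  rw [ψ, Adjunction.homEquiv_unit]
  refine ((Category.assoc _ _ _).symm.trans
    ((congrArg (· ≫ _) ((adj f).unit_naturality _).symm).trans (Category.assoc _ _ _))).trans
    (Eq.trans ?_ (Category.assoc _ _ _).symm)
  refine congrArg (_ ≫ ·) ?_
  refine ((push f).map_comp _ _).symm.trans (Eq.trans ?_ ((push f).map_comp _ _))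
  refine congrArg (push f).map ?_
  have h1 : (pull f).map (HomologicalComplex.ιMapBifunctor ((pushCx f).obj I) P
      (DCoh.tensorBi (X := Y)) (ComplexShape.up ℤ) p q n h) ≫
      ((pullTotIso f ((pushCx f).obj I) P).hom).f n =
      (pullTensorLIso f (P.X q)).hom.app ((push f).obj (I.X p)) ≫
        HomologicalComplex.ιMapBifunctor ((pullCx f).obj ((pushCx f).obj I)) ((pullCx f).obj P)
          (DCoh.tensorBi (X := X)) (ComplexShape.up ℤ) p q n h := by
    refine Eq.trans ?_ (TotCompare.map_ι_isoX (G₁ := pull f) (G₂ := 𝟭 X.Modules)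
      (F₁ := DCoh.tensorBi (X := Y)) (F₂ := DCoh.tensorBi (X := X)) ((pushCx f).obj I) P
      ((pullCx f).obj ((pushCx f).obj I)) ((pullCx f).obj P)
      (fun p q => (pullTensorLIso f (P.X q)).app (((pushCx f).obj I).X p)) p q n h)
    exact congrArg (_ ≫ ·) (Category.comp_id _)
  refine ((Category.assoc _ _ _).symm.trans ((congrArg (· ≫ _) h1).trans (Category.assoc _ _ _))).trans
    (Eq.trans ?_ (Category.assoc _ _ _).symm)
  refine congrArg (_ ≫ ·) ?_
  refine (HomologicalComplex.ι_mapBifunctorMap _ _ _ _ _ _ _ h).trans ?_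
  dsimp
  erw [CategoryTheory.Functor.map_id, Category.id_comp]
  rfl

theorem Ψ_naturality (I : CochainComplex X.Modules ℤ) {P P' : CochainComplex Y.Modules ℤ}
    (φ : P ⟶ P') :
    (tot (DCoh.tensorBi (X := Y)) ((pushCx f).obj I)).map φ ≫ Ψ f I P' =
      Ψ f I P ≫ (pushCx f).map ((tot (DCoh.tensorBi (X := X)) I).map ((pullCx f).map φ)) := by
  refine HomologicalComplex.hom_ext _ _ fun n => HomologicalComplex.mapBifunctor.hom_ext fun p q h => ?_
  have a₁ := ι_tot_map (F := DCoh.tensorBi (X := Y)) ((pushCx f).obj I) φ p q n h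
  have a₂ := ι_Ψ f I P' p q n h
  have a₃ := ι_Ψ f I P p q n h
  have a₄ := congrArg (push f).map (ι_tot_map (F := DCoh.tensorBi (X := X)) I ((pullCx f).map φ) p q n h)
  refine ((Category.assoc _ _ _).symm.trans ((congrArg (· ≫ _) a₁).trans ((Category.assoc _ _ _).trans
    ((congrArg (_ ≫ ·) a₂).trans (Category.assoc _ _ _).symm)))).trans ?_
  refine ((congrArg (· ≫ _) (ψ_naturality f (I.X p) (φ.f q))).trans (Category.assoc _ _ _)).trans ?_
  refine Eq.trans ?_ ((congrArg (· ≫ _) a₃).symm.trans (Category.assoc _ _ _))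
  refine Eq.trans ?_ (Category.assoc _ _ _).symm
  exact congrArg (_ ≫ ·) (((push f).map_comp _ _).symm.trans (a₄.symm.trans ((push f).map_comp _ _)))

end Groth.Agent.H16Derived.ProjFormula
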